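import Groth.Agent.H5.RlimMod.Const
import Groth.Agent.H5.RlimMod.Cov
import Mathlib.CategoryTheory.Triangulated.Yoneda

/-!
# Local criteria in the derived category of an abelian category of sheaf type (helper5)

* `SecStr.isZero_homology_of_local_vanishing`: if `Hom(P_V[0], K⟦p⟧) = 0` for all `V` in a covering
  class of objects, then `H^p(K) = 0`;
* `SecStr.isIso_of_local_bijective`: a morphism `g` in `D(𝒜)` inducing bijections on
  `Hom(P_V[0], -⟦p⟧)` for all `p` and all `V` in a covering class is an isomorphism.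
-/

set_option autoImplicit false
universe w u

namespace Groth.Agent.H5.RlimMod

open CategoryTheory Limits Opposite DerivedCategory Pretriangulated
open Groth.Agent.H5.HDULib Groth.Agent.H33.RlimSite
open ZeroObject

variable {C : Type u} [SmallCategory C] {J : GrothendieckTopology C}
  {𝒜 : Type (u + 1)} [Category.{u} 𝒜] [Abelian 𝒜] (S : SecStr J 𝒜)
  [HasDerivedCategory.{w} 𝒜] [IsGrothendieckAbelian.{u} 𝒜]

namespace SecStr

theorem isZero_homology_of_local_vanishing (K : DerivedCategory 𝒜) (p : ℤ) (B : Set C)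
    (hB : ∀ U : C, ∃ (ι : Type u) (Y : ι → C) (g : ∀ i, Y i ⟶ U),
      Sieve.ofArrows Y g ∈ J U ∧ ∀ i, Y i ∈ B)
    (h : ∀ V ∈ B, Subsingleton ((DerivedCategory.singleFunctor 𝒜 0).obj (S.P V) ⟶ K⟦p⟧)) :
    IsZero ((homologyFunctor 𝒜 p).obj K) := by
  obtain ⟨M, hM, ⟨e⟩⟩ := exists_kinj_model K
  haveI := hM
  let θ : (homologyFunctor 𝒜 p).obj K ≅ M.homology p :=
    (homologyFunctor 𝒜 p).mapIso e.symm ≪≫ (homologyFunctorFactors 𝒜 p).app M
  refine IsZero.of_iso ?_ θ
  -- all sections of `H^p(M)` vanish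
  have hsec : ∀ (U : C) (s : S.Γ (M.homology p) U), s = 0 := by
    intro U s
    have hls : Sheaf.IsLocallySurjective (S.T.map (M.homologyπ p)) :=
      S.isLocallySurjective_of_epi _
    obtain ⟨ι, Y, g, hg, hcov, hYB⟩ := exists_family_in B hB U _ (hls.imageSieve_mem s)
    refine S.isSeparated _ U _ hcov s 0 (fun W i hi => ?_)
    obtain ⟨j, k', rfl⟩ := (Sieve.mem_ofArrows_iff Y g i).1 hi
    have hj : S.rs _ (g j) s = 0 := by
      obtain ⟨ζ', hζ'⟩ : ∃ ζ' : S.Γ (M.cycles p) (Y j),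
          S.sc (M.homologyπ p) (Y j) ζ' = S.rs _ (g j) s := hg j
      have hc : (S.ofS (Y j) _ ζ' ≫ M.iCycles p) ≫ M.d p (p + 1) = 0 := by
        rw [Category.assoc, M.iCycles_d, comp_zero]
      have hcls : cls (S.P (Y j)) M p (S.ofS (Y j) _ ζ' ≫ M.iCycles p) hc = 0 := by
        have hs : Subsingleton (Q.obj ((CochainComplex.singleFunctor 𝒜 0).obj (S.P (Y j))) ⟶
            K⟦p⟧) := h (Y j) (hYB j)
        have h1 : cls (S.P (Y j)) M p (S.ofS (Y j) _ ζ' ≫ M.iCycles p) hc ≫ (e.hom)⟦p⟧' = 0 :=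
          hs.elim _ _
        have h2 := congrArg (fun x => x ≫ (e.inv)⟦p⟧') h1
        simp only [Category.assoc, ← Functor.map_comp, Iso.hom_inv_id,
          CategoryTheory.Functor.map_id, Category.comp_id, zero_comp] at h2
        exact h2
      obtain ⟨b, hb⟩ := (cls_eq_zero_iff (S.P (Y j)) M p _ hc (p - 1) (by simp)).1 hcls
      have h3 : S.ofS (Y j) _ ζ' = b ≫ M.toCycles (p - 1) p := by
        rw [← cancel_mono (M.iCycles p), Category.assoc, M.toCycles_i, hb]
      have h4 : S.ofS (Y j) _ ζ' ≫ M.homologyπ p = 0 := by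
        rw [h3, Category.assoc, M.toCycles_comp_homologyπ, comp_zero]
      rw [← hζ']
      have h5 := S.ev_comp (Y j) (S.ofS (Y j) _ ζ') (M.homologyπ p)
      rw [h4, S.ev_zero, S.ev_ofS] at h5
      exact h5.symm
    change ((S.T.obj _).obj.map (k' ≫ g j).op).hom s = _
    rw [op_comp, Functor.map_comp]
    change S.rs _ k' (S.rs _ (g j) s) = _
    rw [hj, map_zero]
    exact (map_zero (S.rs (M.homology p) (k' ≫ g j))).symm
  haveI : Mono (0 : M.homology p ⟶ 0) :=
    S.mono_of_sc_injective _ (fun U s s' _ => (hsec U s).trans (hsec U s').symm)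
  exact IsZero.of_mono_zero (M.homology p) (0 : 𝒜)

theorem isIso_of_local_bijective {Y Y' : DerivedCategory 𝒜} (g : Y ⟶ Y') (B : Set C)
    (hB : ∀ U : C, ∃ (ι : Type u) (Y : ι → C) (g : ∀ i, Y i ⟶ U),
      Sieve.ofArrows Y g ∈ J U ∧ ∀ i, Y i ∈ B)
    (h : ∀ V ∈ B, ∀ p : ℤ, Function.Bijective
      (fun x : (DerivedCategory.singleFunctor 𝒜 0).obj (S.P V) ⟶ Y⟦p⟧ => x ≫ g⟦p⟧')) :
    IsIso g := by
  obtain ⟨W, u', v', hT⟩ := distinguished_cocone_triangle g
  refine (Triangle.isZero₃_iff_isIso₁ _ hT).1 ?_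
  change IsZero W
  suffices hp : ∀ p : ℤ, IsZero ((homologyFunctor 𝒜 p).obj W) by
    rw [IsZero.iff_id_eq_zero]
    haveI : IsIso (0 : W ⟶ W) := by
      rw [DerivedCategory.isIso_iff]
      intro n
      exact ⟨⟨0, (hp n).eq_of_src _ _, (hp n).eq_of_src _ _⟩⟩
    exact (IsIso.inv_hom_id (0 : W ⟶ W)).symm.trans comp_zero
  intro p
  refine S.isZero_homology_of_local_vanishing W p B hB (fun V hV => ?_)
  let F := preadditiveCoyoneda.obj (op ((DerivedCategory.singleFunctor 𝒜 0).obj (S.P V)))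
  have hiso : ∀ n : ℤ, IsIso ((F.shift n).map (Triangle.mk g u' v').mor₁) := by
    intro n
    change IsIso (F.map (g⟦n⟧'))
    rw [ConcreteCategory.isIso_iff_bijective]
    exact h V hV n
  have h1 : (F.shift p).map (Triangle.mk g u' v').mor₂ = 0 :=
    (F.homologySequence_epi_shift_map_mor₁_iff _ hT p).1 (by haveI := hiso p; infer_instance)
  have h2 : F.homologySequenceδ (Triangle.mk g u' v') p (p + 1) rfl = 0 :=
    (F.homologySequence_mono_shift_map_mor₁_iff _ hT p (p + 1) rfl).1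
      (by haveI := hiso (p + 1); infer_instance)
  have hex := F.homologySequence_exact₃ _ hT p (p + 1) rfl
  have hz : IsZero ((F.shift p).obj W) := by
    have := hex.isZero_of_both_zeros h1 h2
    exact this
  exact AddCommGrpCat.subsingleton_of_isZero hz

end SecStr

end Groth.Agent.H5.RlimMod
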