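import Groth.Agent.H5.RlimMod.Sec
import Mathlib.Algebra.Category.ModuleCat.Limits
import Mathlib.Algebra.Category.ModuleCat.Colimits

/-!
# Modules over a ring as an abelian category of sheaf type over the one-point site (helper5)
-/

set_option autoImplicit false
universe u

namespace Groth.Agent.H5.SiteEq

open CategoryTheory Limits Opposite
open Groth.Agent.H5.HDULib Groth.Agent.H5.RlimMod

variable (R : Type u) [Ring R]

/-- The one-point category. -/
abbrev Pt : Type u := Discrete PUnit.{u + 1}

/-- The functor from modules to (pre)sheaves of abelian groups on the one-point site. -/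
noncomputable def pointT :
    ModuleCat.{u} R ⥤ Sheaf (⊥ : GrothendieckTopology Pt.{u}) AddCommGrpCat.{u} :=
  forget₂ (ModuleCat.{u} R) AddCommGrpCat.{u} ⋙ Functor.const _ ⋙
    (sheafBotEquivalence _).inverse

instance : (pointT R).Additive where
  map_add := by
    intro X Y f g
    apply Sheaf.hom_ext
    ext U x
    rfl

instance : PreservesFiniteLimits (pointT R) := by
  unfold pointT
  infer_instance

instance : PreservesFiniteColimits (pointT R) := by
  unfold pointT
  infer_instance

instance : (pointT R).Faithful where
  map_injective := by
    intro X Y f g h
    have h1 := congrArg (fun φ => (φ.hom.app (op ⟨PUnit.unit⟩)).hom) h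
    ext x
    exact DFunLike.congr_fun h1 x

/-- The `SecStr` of `R`-modules over the one-point site. -/
noncomputable def pointSec : SecStr (⊥ : GrothendieckTopology Pt.{u}) (ModuleCat.{u} R) where
  T := pointT R
  additive := inferInstance
  lim := inferInstance
  colim := inferInstance
  faithful := inferInstance
  P _ := ModuleCat.of R R
  eqv _ F :=
    { toFun := fun a => a.hom (1 : R)
      invFun := fun z => ModuleCat.ofHom (LinearMap.toSpanSingleton R F z)
      left_inv := fun a => by
        ext
        simp
      right_inv := fun z => one_smul R (show (F : Type u) from z) }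
  eqv_comp _ _ _ a φ := rfl

end Groth.Agent.H5.SiteEq
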