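import Groth.Agent.H5.SiteEq.Basic
import Groth.Agent.H53.FreeOn
import Groth.Prelude.Def_SiteCmp

/-!
# Transfer of `Ext` vanishing along an exact functor with a derived right adjoint; pullback of
free sheaves of modules (helper5)
-/

set_option autoImplicit false
universe w₁ w₂ w₃ w₄ v v' u u'

namespace Groth.Agent.H5.SiteEq

open CategoryTheory Limits Opposite DerivedCategory Pretriangulated

section ExtTransfer

variable {𝒜 : Type u} [Category.{v} 𝒜] [Abelian 𝒜] {𝒜' : Type u'} [Category.{v'} 𝒜'] [Abelian 𝒜']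
  [HasDerivedCategory.{w₁} 𝒜] [HasDerivedCategory.{w₂} 𝒜'] [HasExt.{w₃} 𝒜] [HasExt.{w₄} 𝒜']
  (F : 𝒜' ⥤ 𝒜) [F.Additive] [PreservesFiniteLimits F] [PreservesFiniteColimits F]

omit [HasExt.{w₃} 𝒜] [HasExt.{w₄} 𝒜'] in
/-- The unit of an adjunction `F.mapDerivedCategory ⊣ R` is an isomorphism at the shifts of an
object where it is an isomorphism. -/
theorem isIso_unit_shift (R : DerivedCategory 𝒜 ⥤ DerivedCategory 𝒜')
    (adj : F.mapDerivedCategory ⊣ R) (Y : DerivedCategory 𝒜') [IsIso (adj.unit.app Y)] (k : ℤ) :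
    IsIso (adj.unit.app (Y⟦k⟧)) := by
  letI : R.CommShift ℤ := adj.rightAdjointCommShift ℤ
  haveI : adj.CommShift ℤ := adj.commShift_of_leftAdjoint ℤ
  rw [NatTrans.app_shift adj.unit k Y]
  infer_instance

/-- If `Ext^k(F M', F N')` vanishes and the unit is an isomorphism at `N'`, then `Ext^k(M', N')`
vanishes. -/
theorem subsingleton_ext_of_map (R : DerivedCategory 𝒜 ⥤ DerivedCategory 𝒜')
    (adj : F.mapDerivedCategory ⊣ R) (M' N' : 𝒜') (Q : 𝒜) (e : F.obj M' ≅ Q) (k : ℕ)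
    (hu : IsIso (adj.unit.app ((singleFunctor 𝒜' 0).obj N')))
    (h : Subsingleton (Abelian.Ext.{w₃} Q (F.obj N') k)) :
    Subsingleton (Abelian.Ext.{w₄} M' N' k) := by
  haveI := hu
  haveI hk := isIso_unit_shift F R adj ((singleFunctor 𝒜' 0).obj N') (k : ℤ)
  -- the target Hom group vanishes
  have h1 : Subsingleton ((singleFunctor 𝒜 0).obj Q ⟶ ((singleFunctor 𝒜 0).obj (F.obj N'))⟦(k : ℤ)⟧) :=
    (Abelian.Ext.homEquiv (X := Q) (Y := F.obj N') (n := k)).symm.subsingleton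
  let L := F.mapDerivedCategory
  let e1 : L.obj ((singleFunctor 𝒜' 0).obj M') ≅ (singleFunctor 𝒜 0).obj Q :=
    (F.mapDerivedCategorySingleFunctor 0).app M' ≪≫ (singleFunctor 𝒜 0).mapIso e
  let e2 : L.obj (((singleFunctor 𝒜' 0).obj N')⟦(k : ℤ)⟧) ≅
      ((singleFunctor 𝒜 0).obj (F.obj N'))⟦(k : ℤ)⟧ :=
    (L.commShiftIso (k : ℤ)).app _ ≪≫
      (shiftFunctor _ (k : ℤ)).mapIso ((F.mapDerivedCategorySingleFunctor 0).app N')
  have h2 : Subsingleton (L.obj ((singleFunctor 𝒜' 0).obj M') ⟶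
      L.obj (((singleFunctor 𝒜' 0).obj N')⟦(k : ℤ)⟧)) :=
    ⟨fun x y => by
      have := h1.elim (e1.inv ≫ x ≫ e2.hom) (e1.inv ≫ y ≫ e2.hom)
      simpa using this⟩
  have h3 : Subsingleton ((singleFunctor 𝒜' 0).obj M' ⟶ ((singleFunctor 𝒜' 0).obj N')⟦(k : ℤ)⟧) :=
    ⟨fun x y => by
      have hxy : L.map x = L.map y := h2.elim _ _
      have hx := adj.unit.naturality x
      have hy := adj.unit.naturality y
      dsimp at hx hy
      rw [← cancel_mono (adj.unit.app (((singleFunctor 𝒜' 0).obj N')⟦(k : ℤ)⟧)), hx, hy]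
      change _ ≫ R.map (L.map x) = _ ≫ R.map (L.map y)
      rw [hxy]⟩
  exact (Abelian.Ext.homEquiv (X := M') (Y := N') (n := k)).subsingleton

end ExtTransfer

section PullFree

open ModSite

variable {C : Type u} [SmallCategory C] {J : GrothendieckTopology C} {O_C : Sheaf J CommRingCat.{u}}
  {D : Type u} [SmallCategory D] {K : GrothendieckTopology D} {O_D : Sheaf K CommRingCat.{u}}
  (f : ModSite.RMor O_C O_D)

/-- `Hom(f^* j_! O_V, M) ≃ Hom(j_! O_{uV}, M)`. -/
noncomputable def pullFreeOnHomEquiv (V : D) (M : Mod O_C) :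
    (f.pull.obj (freeOn O_D V) ⟶ M) ≃ (freeOn O_C (f.fn.obj V) ⟶ M) :=
  (f.adj.homEquiv _ _).trans ((H53.freeOnHomEquiv O_D V (f.push.obj M)).trans
    (H53.freeOnHomEquiv O_C (f.fn.obj V) M).symm)

theorem pullFreeOnHomEquiv_comp (V : D) {M M' : Mod O_C} (a : f.pull.obj (freeOn O_D V) ⟶ M)
    (g : M ⟶ M') :
    pullFreeOnHomEquiv f V M' (a ≫ g) = pullFreeOnHomEquiv f V M a ≫ g := by
  show (H53.freeOnHomEquiv O_C (f.fn.obj V) M').symm
      (H53.freeOnHomEquiv O_D V (f.push.obj M') (f.adj.homEquiv _ _ (a ≫ g))) =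
    (H53.freeOnHomEquiv O_C (f.fn.obj V) M).symm
      (H53.freeOnHomEquiv O_D V (f.push.obj M) (f.adj.homEquiv _ _ a)) ≫ g
  rw [Adjunction.homEquiv_naturality_right, H53.freeOnHomEquiv_comp]
  exact (H53.freeOnHomEquiv_symm_comp O_C (f.fn.obj V)
    (H53.freeOnHomEquiv O_D V (f.push.obj M) (f.adj.homEquiv _ _ a)) g).symm

/-- The inverse image of the free module on `V` is the free module on `u V`. -/
noncomputable def pullFreeOnIso (V : D) :
    f.pull.obj (freeOn O_D V) ≅ freeOn O_C (f.fn.obj V) :=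
  Coyoneda.ext _ _ (fun {M} a => pullFreeOnHomEquiv f V M a)
    (fun {M} b => (pullFreeOnHomEquiv f V M).symm b)
    (fun a => Equiv.symm_apply_apply _ a) (fun b => Equiv.apply_symm_apply _ b)
    (fun {M M'} b g => by
      apply (pullFreeOnHomEquiv f V M').injective
      rw [Equiv.apply_symm_apply, pullFreeOnHomEquiv_comp, Equiv.apply_symm_apply])

end PullFree

end Groth.Agent.H5.SiteEq
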