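import Groth.Agent.H5.SiteEq.Main2
import Groth.Agent.H5.SiteEq.Local
import Groth.Agent.H5.SiteEq.PointSec
import Groth.Agent.H5.SiteEq.Pull
import Groth.Agent.H5.KInj.DerivedAdj
import Mathlib.Algebra.Homology.DerivedCategory.Ext.EnoughProjectives

/-!
# `D(R) ≃ D_P(𝒜)` for an exact fully faithful functor `F : Mod_R ⥤ 𝒜` with essential image `P`
into an abelian category of sheaf type, under vanishing of higher `Ext` (helper5)

This is the abstract form of `D(A) ≃ D_QCoh(O_{Spec A})`.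
-/

set_option autoImplicit false
universe w₁ w₂ w₃ w₄ u

namespace Groth.Agent.H5.SiteEq

open CategoryTheory Limits Opposite DerivedCategory Pretriangulated
open Groth.Agent.H5.RlimMod Groth.Agent.H5.KInjDer
open ZeroObject

section WS

variable {𝒜' : Type*} [Category 𝒜'] [Abelian 𝒜']

instance isWeakSerre_top : WSerre.IsWeakSerre (⊤ : ObjectProperty 𝒜') where
  exists_zero := ⟨0, isZero_zero _, trivial⟩
  kernels_le := fun _ _ => trivial
  cokernels_le := fun _ _ => trivial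
  prop_X₂_of_shortExact := fun _ _ _ => trivial

end WS

section Bij

variable {𝒜 : Type*} [Category 𝒜] [Abelian 𝒜] {𝒜' : Type*} [Category 𝒜'] [Abelian 𝒜']
  [HasDerivedCategory.{w₁} 𝒜] [HasDerivedCategory.{w₂} 𝒜']
  (F : 𝒜' ⥤ 𝒜) [F.Additive] [PreservesFiniteLimits F] [PreservesFiniteColimits F]

/-- Post-composition with the shifted unit is bijective as soon as `L` is bijective on the
corresponding morphisms. -/
theorem bijective_comp_unit_shift (R : DerivedCategory 𝒜 ⥤ DerivedCategory 𝒜')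
    (adj : F.mapDerivedCategory ⊣ R) (P0 Y : DerivedCategory 𝒜') (p : ℤ)
    (h : Function.Bijective (fun x : P0 ⟶ Y⟦p⟧ => F.mapDerivedCategory.map x)) :
    Function.Bijective (fun x : P0 ⟶ Y⟦p⟧ => x ≫ (adj.unit.app Y)⟦p⟧') := by
  letI : R.CommShift ℤ := adj.rightAdjointCommShift ℤ
  haveI : adj.CommShift ℤ := adj.commShift_of_leftAdjoint ℤ
  have e : ∀ x : P0 ⟶ Y⟦p⟧, x ≫ (adj.unit.app Y)⟦p⟧' =
      adj.homEquiv _ _ (F.mapDerivedCategory.map x) ≫
        ((F.mapDerivedCategory ⋙ R).commShiftIso p).hom.app Y := by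
    intro x
    rw [NatTrans.shift_app adj.unit p Y, Adjunction.homEquiv_unit]
    have hn := adj.unit.naturality x
    dsimp at hn ⊢
    rw [Functor.commShiftIso_id_inv_app, Category.id_comp, ← Category.assoc, hn]
  have h2 : Function.Bijective (fun y : F.mapDerivedCategory.obj P0 ⟶
      F.mapDerivedCategory.obj (Y⟦p⟧) => adj.homEquiv _ _ y ≫
        ((F.mapDerivedCategory ⋙ R).commShiftIso p).hom.app Y) := by
    constructor
    · intro y y' hy
      dsimp at hy
      rw [cancel_mono] at hy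
      exact (adj.homEquiv _ _).injective hy
    · intro z
      refine ⟨(adj.homEquiv _ _).symm
        (z ≫ ((F.mapDerivedCategory ⋙ R).commShiftIso p).inv.app Y), ?_⟩
      dsimp
      rw [Equiv.apply_symm_apply, Category.assoc, Iso.inv_hom_id_app]
      exact Category.comp_id _
  have h3 := h2.comp h
  have h4 : (fun x : P0 ⟶ Y⟦p⟧ => x ≫ (adj.unit.app Y)⟦p⟧') =
      ((fun y : F.mapDerivedCategory.obj P0 ⟶ F.mapDerivedCategory.obj (Y⟦p⟧) =>
        adj.homEquiv _ _ y ≫ ((F.mapDerivedCategory ⋙ R).commShiftIso p).hom.app Y) ∘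
          fun x : P0 ⟶ Y⟦p⟧ => F.mapDerivedCategory.map x) := funext e
  rw [h4]
  exact h3

/-- `L` is bijective on morphisms between single objects in degree `0` if `F` is fully
faithful. -/
theorem bijective_map_single (hF : F.FullyFaithful) (A B : 𝒜') :
    Function.Bijective (fun x : (singleFunctor 𝒜' 0).obj A ⟶ (singleFunctor 𝒜' 0).obj B =>
      F.mapDerivedCategory.map x) := by
  let e := F.mapDerivedCategorySingleFunctor 0
  have hnat : ∀ φ : A ⟶ B, F.mapDerivedCategory.map ((singleFunctor 𝒜' 0).map φ) =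
      e.hom.app A ≫ (singleFunctor 𝒜 0).map (F.map φ) ≫ e.inv.app B := by
    intro φ
    have := e.hom.naturality φ
    dsimp at this
    rw [← reassoc_of% this, Iso.hom_inv_id_app]
    exact (Category.comp_id _).symm
  constructor
  · intro x y hxy
    obtain ⟨φ, rfl⟩ := (singleFunctor 𝒜' 0).map_surjective x
    obtain ⟨ψ, rfl⟩ := (singleFunctor 𝒜' 0).map_surjective y
    dsimp at hxy
    rw [hnat, hnat, cancel_epi, cancel_mono] at hxy
    rw [hF.map_injective ((singleFunctor 𝒜 0).map_injective hxy)]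
  · intro y
    obtain ⟨ψ', hψ'⟩ := (singleFunctor 𝒜 0).map_surjective (e.inv.app A ≫ y ≫ e.hom.app B)
    refine ⟨(singleFunctor 𝒜' 0).map (hF.preimage ψ'), ?_⟩
    dsimp
    rw [hnat, hF.map_preimage, hψ']
    simp

/-- `L` is bijective on a morphism set if the latter and its image are subsingletons. -/
theorem bijective_of_subsingleton {α β : Type*} [Zero α] (f : α → β) [Subsingleton α]
    [Subsingleton β] : Function.Bijective f :=
  ⟨fun _ _ _ => Subsingleton.elim _ _, fun b => ⟨0, Subsingleton.elim _ _⟩⟩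

end Bij

section Vanish

variable {𝒜 : Type*} [Category 𝒜] [Abelian 𝒜] [HasDerivedCategory.{w₁} 𝒜]

theorem subsingleton_hom_single_shift_neg (X Y : 𝒜) (p : ℤ) (hp : p < 0) :
    Subsingleton ((singleFunctor 𝒜 0).obj X ⟶ ((singleFunctor 𝒜 0).obj Y)⟦p⟧) := by
  haveI : TStructure.t.IsGE (((singleFunctor 𝒜 0).obj Y)⟦p⟧) (-p) :=
    TStructure.t.isGE_shift _ 0 p (-p) (by omega)
  haveI : TStructure.t.IsLE ((singleFunctor 𝒜 0).obj X) 0 :=
    inferInstanceAs (((singleFunctor 𝒜 0).obj X).IsLE 0)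
  exact ⟨fun f g => (TStructure.t.zero f 0 (-p) (by omega)).trans
    (TStructure.t.zero g 0 (-p) (by omega)).symm⟩

theorem subsingleton_hom_single_shift_pos [HasExt.{w₃} 𝒜] (X Y : 𝒜) (p : ℤ) (hp : 0 < p)
    (h : ∀ k : ℕ, 0 < k → Subsingleton (Abelian.Ext.{w₃} X Y k)) :
    Subsingleton ((singleFunctor 𝒜 0).obj X ⟶ ((singleFunctor 𝒜 0).obj Y)⟦p⟧) := by
  obtain ⟨k, rfl⟩ : ∃ k : ℕ, p = (k : ℤ) := ⟨p.toNat, (Int.toNat_of_nonneg hp.le).symm⟩
  haveI := h k (by exact_mod_cast hp)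
  exact (Abelian.Ext.homEquiv (X := X) (Y := Y) (n := k)).symm.subsingleton

end Vanish

section Main

variable {C : Type u} [SmallCategory C] {J : GrothendieckTopology C}
  {𝒜 : Type (u + 1)} [Category.{u} 𝒜] [Abelian 𝒜] [IsGrothendieckAbelian.{u} 𝒜]
  (S : SecStr J 𝒜) [HasDerivedCategory.{w₁} 𝒜] [HasExt.{w₃} 𝒜]
  (R0 : Type u) [Ring R0] [HasDerivedCategory.{w₂} (ModuleCat.{u} R0)]
  [HasExt.{w₄} (ModuleCat.{u} R0)]
  (F : ModuleCat.{u} R0 ⥤ 𝒜) [F.Additive] [PreservesFiniteLimits F] [PreservesFiniteColimits F]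

theorem affine_equivalence (G : 𝒜 ⥤ ModuleCat.{u} R0) (adj0 : F ⊣ G) (hF : F.FullyFaithful)
    (P : ObjectProperty 𝒜) [P.IsClosedUnderIsomorphisms] [P.ContainsZero]
    (hess : ∀ M : 𝒜, P M ↔ F.essImage M)
    (T : C) (eT : F.obj (ModuleCat.of R0 R0) ≅ S.P T)
    (hT : ∀ M : 𝒜, P M → ∀ k : ℕ, 0 < k → Subsingleton (Abelian.Ext.{w₃} (S.P T) M k))
    (B : Set C)
    (hB : ∀ U : C, ∃ (ι : Type u) (Y : ι → C) (g : ∀ i, Y i ⟶ U),
      Sieve.ofArrows Y g ∈ J U ∧ ∀ i, Y i ∈ B)
    (hA : ∀ V ∈ B, ∃ d : ℕ, ∀ T ∈ J V, ∃ (ι : Type u) (Y : ι → C) (g : ∀ i, Y i ⟶ V),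
      (∀ i, T.arrows (g i)) ∧ Sieve.ofArrows Y g ∈ J V ∧
      ∀ (i : ι) (M : 𝒜), P M → ∀ k : ℕ, d < k →
        Subsingleton (Abelian.Ext.{w₃} (S.P (Y i)) M k)) :
    F.mapDerivedCategory.Full ∧ F.mapDerivedCategory.Faithful ∧
      ∀ K : DerivedCategory 𝒜, WSerre.cohIn P K ↔
        ∃ M, Nonempty (F.mapDerivedCategory.obj M ≅ K) := by
  haveI : G.Additive := adj0.right_adjoint_additive
  -- the derived functor of `G` and the derived adjunction
  let X0 := G.mapHomologicalComplex (ComplexShape.up ℤ) ⋙ DerivedCategory.Q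
  have hX0 := inverts_map_Q (A := ModuleCat.{u} R0) G
  haveI : X0.HasPointwiseRightDerivedFunctor (Wq 𝒜) :=
    (derives X0 hX0).hasPointwiseRightDerivedFunctor
  let RG := X0.totalRightDerived DerivedCategory.Q (Wq 𝒜)
  let α := X0.totalRightDerivedUnit DerivedCategory.Q (Wq 𝒜)
  haveI : RG.IsRightDerivedFunctor α (Wq 𝒜) := inferInstance
  obtain ⟨adjD, -⟩ := exists_derivedAdj adj0 RG α
  let L := F.mapDerivedCategory
  -- hypotheses of the equivalence theorem
  have h2a : ∀ M' : ModuleCat.{u} R0, (⊤ : ObjectProperty (ModuleCat.{u} R0)) M' → P (F.obj M') :=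
    fun M' _ => (hess _).2 (F.obj_mem_essImage M')
  have h2b : ∀ M' N' : ModuleCat.{u} R0, (⊤ : ObjectProperty (ModuleCat.{u} R0)) M' →
      (⊤ : ObjectProperty (ModuleCat.{u} R0)) N' →
      Function.Bijective (fun φ : M' ⟶ N' => F.map φ) :=
    fun M' N' _ _ => hF.map_bijective M' N'
  have h2c : ∀ M : 𝒜, P M → ∃ M' : ModuleCat.{u} R0,
      (⊤ : ObjectProperty (ModuleCat.{u} R0)) M' ∧ Nonempty (F.obj M' ≅ M) := by
    intro M hM
    obtain ⟨M', ⟨e⟩⟩ := (hess M).1 hM
    exact ⟨M', trivial, ⟨e⟩⟩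
  have hB' : ∀ U : Pt.{u}, ∃ (ι : Type u) (Y : ι → Pt.{u}) (g : ∀ i, Y i ⟶ U),
      Sieve.ofArrows Y g ∈ (⊥ : GrothendieckTopology Pt.{u}) U ∧ ∀ i, Y i ∈ (Set.univ : Set Pt.{u}) := by
    intro U
    refine ⟨PUnit, fun _ => U, fun _ => 𝟙 U, ?_, fun _ => trivial⟩
    rw [GrothendieckTopology.bot_covering, ← Sieve.id_mem_iff_eq_top]
    exact Sieve.ofArrows_mk _ _ PUnit.unit
  have hA' : ∀ V ∈ (Set.univ : Set Pt.{u}), ∃ d : ℕ, ∀ T ∈ (⊥ : GrothendieckTopology Pt.{u}) V,
      ∃ (ι : Type u) (Y : ι → Pt.{u}) (g : ∀ i, Y i ⟶ V),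
      (∀ i, T.arrows (g i)) ∧ Sieve.ofArrows Y g ∈ (⊥ : GrothendieckTopology Pt.{u}) V ∧
      ∀ (i : ι) (M' : ModuleCat.{u} R0), (⊤ : ObjectProperty (ModuleCat.{u} R0)) M' →
        ∀ k : ℕ, d < k → Subsingleton (Abelian.Ext.{w₄} ((pointSec R0).P (Y i)) M' k) := by
    intro V _
    refine ⟨0, fun T hT => ⟨PUnit, fun _ => V, fun _ => 𝟙 V, fun _ => ?_, ?_, ?_⟩⟩
    · rw [GrothendieckTopology.bot_covering] at hT
      rw [hT]
      trivial
    · rw [GrothendieckTopology.bot_covering, ← Sieve.id_mem_iff_eq_top]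
      exact Sieve.ofArrows_mk _ _ PUnit.unit
    · intro _ M' _ k hk
      obtain ⟨k', rfl⟩ : ∃ k' : ℕ, k = k' + 1 := ⟨k - 1, by omega⟩
      haveI : Projective (ModuleCat.of R0 R0) := inferInstance
      exact Abelian.Ext.subsingleton_of_projective (ModuleCat.of R0 R0) M' k'
  -- the unit is an isomorphism on single modules
  have h3 : ∀ M' : ModuleCat.{u} R0, (⊤ : ObjectProperty (ModuleCat.{u} R0)) M' →
      IsIso (adjD.unit.app ((singleFunctor (ModuleCat.{u} R0) 0).obj M')) := by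
    intro M' _
    refine (pointSec R0).isIso_of_local_bijective _ Set.univ hB' (fun V _ p => ?_)
    refine bijective_comp_unit_shift F RG adjD _ _ p ?_
    change Function.Bijective (fun x : (singleFunctor (ModuleCat.{u} R0) 0).obj (ModuleCat.of R0 R0) ⟶
      ((singleFunctor (ModuleCat.{u} R0) 0).obj M')⟦p⟧ => L.map x)
    -- the isomorphisms identifying the target
    let e1 : L.obj ((singleFunctor (ModuleCat.{u} R0) 0).obj (ModuleCat.of R0 R0)) ≅
        (singleFunctor 𝒜 0).obj (S.P T) :=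
      (F.mapDerivedCategorySingleFunctor 0).app _ ≪≫ (singleFunctor 𝒜 0).mapIso eT
    let e2 : L.obj (((singleFunctor (ModuleCat.{u} R0) 0).obj M')⟦p⟧) ≅
        ((singleFunctor 𝒜 0).obj (F.obj M'))⟦p⟧ :=
      (L.commShiftIso p).app _ ≪≫
        (shiftFunctor _ p).mapIso ((F.mapDerivedCategorySingleFunctor 0).app M')
    have htr : Subsingleton ((singleFunctor 𝒜 0).obj (S.P T) ⟶
        ((singleFunctor 𝒜 0).obj (F.obj M'))⟦p⟧) →
        Subsingleton (L.obj ((singleFunctor (ModuleCat.{u} R0) 0).obj (ModuleCat.of R0 R0)) ⟶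
          L.obj (((singleFunctor (ModuleCat.{u} R0) 0).obj M')⟦p⟧)) := by
      intro h1
      refine ⟨fun x y => ?_⟩
      have := h1.elim (e1.inv ≫ x ≫ e2.hom) (e1.inv ≫ y ≫ e2.hom)
      simpa using this
    rcases lt_trichotomy p 0 with hp | hp | hp
    · haveI := subsingleton_hom_single_shift_neg (ModuleCat.of R0 R0) M' p hp
      haveI := htr (subsingleton_hom_single_shift_neg (S.P T) (F.obj M') p hp)
      exact bijective_of_subsingleton _
    · subst hp
      -- reduce to the unshifted statement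
      have h0 := bijective_map_single F hF (ModuleCat.of R0 R0) M'
      let i0 := (shiftFunctorZero (DerivedCategory (ModuleCat.{u} R0)) ℤ).app
        ((singleFunctor (ModuleCat.{u} R0) 0).obj M')
      constructor
      · intro x y hxy
        dsimp at hxy
        have h1 : L.map (x ≫ i0.hom) = L.map (y ≫ i0.hom) := by
          rw [Functor.map_comp, Functor.map_comp, hxy]
        have h2 := h0.1 h1
        exact (cancel_mono i0.hom).1 h2
      · intro y
        obtain ⟨x, hx⟩ := h0.2 (y ≫ L.map i0.hom)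
        refine ⟨x ≫ i0.inv, ?_⟩
        dsimp at hx ⊢
        rw [Functor.map_comp, hx, Category.assoc, ← Functor.map_comp, Iso.hom_inv_id,
          CategoryTheory.Functor.map_id, Category.comp_id]
    · haveI := subsingleton_hom_single_shift_pos (ModuleCat.of R0 R0) M' p hp
        (fun k hk => by
          obtain ⟨k', rfl⟩ : ∃ k' : ℕ, k = k' + 1 := ⟨k - 1, by omega⟩
          exact Abelian.Ext.subsingleton_of_projective (ModuleCat.of R0 R0) M' k')
      haveI := htr (subsingleton_hom_single_shift_pos (S.P T) (F.obj M') p hp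
        (fun k hk => hT _ (h2a M' trivial) k hk))
      exact bijective_of_subsingleton _
  obtain ⟨hI, hII⟩ := equivalence_unbounded' S (pointSec R0) F RG adjD P
    (⊤ : ObjectProperty (ModuleCat.{u} R0)) h2a h2b h2c h3 B Set.univ hB hA hB' hA'
  have hunit : IsIso adjD.unit := by
    rw [NatTrans.isIso_iff_isIso_app]
    intro Y
    exact (hI Y (fun _ => trivial)).2
  have hff := adjD.fullyFaithfulLOfIsIsoUnit
  refine ⟨hff.full, hff.faithful, fun K => ⟨fun hK => ?_, ?_⟩⟩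
  · haveI := (hII K hK).2
    exact ⟨RG.obj K, ⟨asIso (adjD.counit.app K)⟩⟩
  · rintro ⟨M, ⟨e⟩⟩
    exact H45.cohIn_of_iso P e ((hI M (fun _ => trivial)).1)

end Main

end Groth.Agent.H5.SiteEq
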