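import Groth.Agent.H53.FreeOn

/-!
# On a ringed site with a terminal object `T`, the structure sheaf is the free module on `T`
(helper5)
-/

set_option autoImplicit false
universe u
open CategoryTheory CategoryTheory.Limits Opposite

namespace Groth.Agent.H5.SiteEq

open ModSite

variable {C : Type u} [SmallCategory C] {J : GrothendieckTopology C}
  (O : Sheaf J CommRingCat.{u}) {T : C} (hT : IsTerminal T)

/-- Global sections of a module are its sections over a terminal object. -/
noncomputable def sectionsTerminalEquiv (M : Mod O) :
    SheafOfModules.sections M ≃ M.val.obj (op T) where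
  toFun s := s.val (op T)
  invFun m := PresheafOfModules.sectionsMk
    (fun W => M.val.map (hT.from W.unop).op m)
    (by
      intro W W' g
      have h : g.unop ≫ hT.from W.unop = hT.from W'.unop := hT.hom_ext _ _
      have := M.val.map_comp_apply (hT.from W.unop).op g.unop.op m
      rw [← op_comp, h] at this
      exact this.symm)
  left_inv s := by
    apply PresheafOfModules.sections_ext
    intro W
    exact PresheafOfModules.sections_property s (hT.from W.unop).op
  right_inv m := by
    change M.val.map (hT.from T).op m = m
    rw [hT.hom_ext (hT.from T) (𝟙 T), op_id, M.val.map_id]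
    rfl

/-- `Hom(O, M) ≃ Hom(j_{T!} O_T, M)`. -/
noncomputable def unitFreeOnHomEquiv (M : Mod O) :
    (SheafOfModules.unit (ringSh O) ⟶ M) ≃ (freeOn O T ⟶ M) :=
  (SheafOfModules.unitHomEquiv M).trans ((sectionsTerminalEquiv O hT M).trans
    (H53.freeOnHomEquiv O T M).symm)

theorem unitFreeOnHomEquiv_comp {M M' : Mod O} (a : SheafOfModules.unit (ringSh O) ⟶ M)
    (g : M ⟶ M') :
    unitFreeOnHomEquiv O hT M' (a ≫ g) = unitFreeOnHomEquiv O hT M a ≫ g := by
  simp only [unitFreeOnHomEquiv, Equiv.trans_apply]
  rw [H53.freeOnHomEquiv_symm_comp, SheafOfModules.unitHomEquiv_comp_apply]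
  rfl

/-- The structure sheaf is the free module on the terminal object. -/
noncomputable def unitFreeOnIso : SheafOfModules.unit (ringSh O) ≅ freeOn O T :=
  Coyoneda.ext _ _ (fun {M} a => unitFreeOnHomEquiv O hT M a)
    (fun {M} b => (unitFreeOnHomEquiv O hT M).symm b)
    (fun a => Equiv.symm_apply_apply _ a) (fun b => Equiv.apply_symm_apply _ b)
    (fun {M M'} b g => by
      apply (unitFreeOnHomEquiv O hT M').injective
      rw [Equiv.apply_symm_apply, unitFreeOnHomEquiv_comp, Equiv.apply_symm_apply])

end Groth.Agent.H5.SiteEq
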