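import Groth.Agent.H45.EquivPlus
import Groth.Agent.H5.KInj.Triang
import Groth.Agent.H5.KInj.Products
import Groth.Prelude.Def_CohCx

/-!
# Tools for extending equivalences `D^+_{P'} ≃ D^+_P` to unbounded derived categories

* `homologyMapDerivedIso`: `H^j ∘ F.mapDerivedCategory ≅ F ∘ H^j` naturally, for `F` exact;
* `isRlimVia_map`: triangulated functors preserving countable products preserve derived limits;
* `hasProduct_derived`: countable products in the derived category of a Grothendieck abelian category;
* `isIso_of_map_bijective`: a functor fully faithful on a class of objects reflects isomorphisms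
  between objects of the class.
-/

set_option autoImplicit false
universe w w' v v' u u'
open CategoryTheory CategoryTheory.Limits Pretriangulated

namespace Groth.Agent.H5.SiteEq

open DerivedCategory

section NatIso

variable {A' : Type u'} [Category.{v'} A'] [Abelian A'] [HasDerivedCategory.{w'} A']
  {A : Type u} [Category.{v} A] [Abelian A] [HasDerivedCategory.{w} A]
  (F : A' ⥤ A) [F.Additive] [PreservesFiniteLimits F] [PreservesFiniteColimits F]

/-- `H^j(F K) ≅ F(H^j K)` naturally in the complex `K`, for `F` exact. -/
noncomputable def homologyMapComplexIso (j : ℤ) :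
    F.mapHomologicalComplex (ComplexShape.up ℤ) ⋙
        HomologicalComplex.homologyFunctor A (ComplexShape.up ℤ) j ≅
      HomologicalComplex.homologyFunctor A' (ComplexShape.up ℤ) j ⋙ F :=
  NatIso.ofComponents (fun K => (K.sc j).mapHomologyIso F)
    (fun f => ShortComplex.mapHomologyIso_hom_naturality
      ((HomologicalComplex.shortComplexFunctor A' (ComplexShape.up ℤ) j).map f) F)

/-- `H^j(F Y) ≅ F(H^j Y)` naturally in `Y : D(A')`, for `F` exact. -/
noncomputable def homologyMapDerivedIso (j : ℤ) :
    F.mapDerivedCategory ⋙ homologyFunctor A j ≅ homologyFunctor A' j ⋙ F :=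
  letI : Localization.Lifting Q (HomologicalComplex.quasiIso A' (ComplexShape.up ℤ))
      (F.mapHomologicalComplex (ComplexShape.up ℤ) ⋙
        HomologicalComplex.homologyFunctor A (ComplexShape.up ℤ) j)
      (F.mapDerivedCategory ⋙ homologyFunctor A j) :=
    ⟨(Functor.associator _ _ _).symm ≪≫
      Functor.isoWhiskerRight F.mapDerivedCategoryFactors (homologyFunctor A j) ≪≫
      Functor.associator _ _ _ ≪≫
      Functor.isoWhiskerLeft _ (homologyFunctorFactors A j)⟩
  letI : Localization.Lifting Q (HomologicalComplex.quasiIso A' (ComplexShape.up ℤ))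
      (HomologicalComplex.homologyFunctor A' (ComplexShape.up ℤ) j ⋙ F)
      (homologyFunctor A' j ⋙ F) :=
    ⟨(Functor.associator _ _ _).symm ≪≫
      Functor.isoWhiskerRight (homologyFunctorFactors A' j) F⟩
  Localization.liftNatIso Q (HomologicalComplex.quasiIso A' (ComplexShape.up ℤ)) _ _ _ _
    (homologyMapComplexIso F j)

theorem isIso_homology_map_iff {Y Y' : DerivedCategory A'} (g : Y ⟶ Y') (j : ℤ) :
    IsIso ((homologyFunctor A j).map (F.mapDerivedCategory.map g)) ↔
      IsIso (F.map ((homologyFunctor A' j).map g)) := by
  have h := (homologyMapDerivedIso F j).hom.naturality g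
  dsimp at h
  constructor
  · intro hi
    have : F.map ((homologyFunctor A' j).map g) =
        (homologyMapDerivedIso F j).inv.app Y ≫
          (homologyFunctor A j).map (F.mapDerivedCategory.map g) ≫
            (homologyMapDerivedIso F j).hom.app Y' := by
      rw [h, Iso.inv_hom_id_app_assoc]
    rw [this]
    infer_instance
  · intro hi
    have : (homologyFunctor A j).map (F.mapDerivedCategory.map g) =
        (homologyMapDerivedIso F j).hom.app Y ≫ F.map ((homologyFunctor A' j).map g) ≫
          (homologyMapDerivedIso F j).inv.app Y' := by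
      rw [← reassoc_of% h, Iso.hom_inv_id_app]
      exact (Category.comp_id _).symm
    rw [this]
    infer_instance

end NatIso

section Reflect

variable {A' : Type u'} [Category.{v'} A'] {A : Type u} [Category.{v} A] (F : A' ⥤ A)

/-- A functor which is bijective on morphisms between objects of a class `P'` reflects isomorphisms
between such objects. -/
theorem isIso_of_map_bijective (P' : ObjectProperty A')
    (h : ∀ M N : A', P' M → P' N → Function.Bijective (fun φ : M ⟶ N => F.map φ))
    {M N : A'} (hM : P' M) (hN : P' N) (g : M ⟶ N) [IsIso (F.map g)] : IsIso g := by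
  obtain ⟨g', hg'⟩ := (h N M hN hM).2 (inv (F.map g))
  dsimp at hg'
  refine ⟨g', (h M M hM hM).1 ?_, (h N N hN hN).1 ?_⟩
  · dsimp
    rw [Functor.map_comp, hg', IsIso.hom_inv_id, CategoryTheory.Functor.map_id]
  · dsimp
    rw [Functor.map_comp, hg', IsIso.inv_hom_id, CategoryTheory.Functor.map_id]

end Reflect

section RlimMap

variable {T : Type u} {T' : Type u'} [Category.{v} T] [Category.{v'} T'] [Preadditive T] [Preadditive T']
    [HasZeroObject T] [HasZeroObject T'] [HasShift T ℤ] [HasShift T' ℤ]
    [∀ n : ℤ, (shiftFunctor T n).Additive] [∀ n : ℤ, (shiftFunctor T' n).Additive]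
    [Pretriangulated T] [Pretriangulated T']

set_option backward.isDefEq.respectTransparency.types false in
set_option backward.defeqAttrib.useBackward true in
/-- A triangulated functor preserving a countable product preserves the corresponding derived
limit (with the maps to the members of the system). -/
theorem isRlimVia_map (R : T ⥤ T') [R.CommShift ℤ] [R.IsTriangulated]
    (K : ℕ → T) (t : ∀ n, K (n + 1) ⟶ K n) [HasProduct K] [HasProduct fun n => R.obj (K n)]
    [PreservesLimit (Discrete.functor K) R]
    (L : T) (a : ∀ n, L ⟶ K n) (hL : CohCx.IsRlimVia K t L a) :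
    CohCx.IsRlimVia (fun n => R.obj (K n)) (fun n => R.map (t n)) (R.obj L)
      (fun n => R.map (a n)) := by
  haveI : R.Additive := Functor.additive_of_preserves_binary_products _
  obtain ⟨c, h⟩ := hL
  have h' := R.map_distinguished _ h
  let e := PreservesProduct.iso R K
  have he : ∀ n, e.hom ≫ Pi.π (fun n => R.obj (K n)) n = R.map (Pi.π K n) := fun n => by
    simp [e, PreservesProduct.iso_hom]
  refine ⟨e.inv ≫ R.map c ≫ (R.commShiftIso (1 : ℤ)).hom.app L, isomorphic_distinguished _ h' _
    (Triangle.isoMk _ _ (Iso.refl _) e.symm e.symm ?_ ?_ ?_)⟩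
  · dsimp
    rw [Category.id_comp, Iso.comp_inv_eq]
    apply Pi.hom_ext
    intro n
    rw [Category.assoc, he, Pi.lift_π, ← Functor.map_comp, Pi.lift_π]
  · dsimp
    rw [Iso.eq_inv_comp, ← Category.assoc, Iso.comp_inv_eq]
    apply Pi.hom_ext
    intro n
    simp only [Category.assoc, Pi.lift_π, he, ← Functor.map_comp, Preadditive.comp_sub,
      Functor.map_sub]
    rw [← Category.assoc, he, Functor.map_comp]
  · dsimp
    simp

end RlimMap

section Products

variable {A : Type u} [Category.{v} A] [Abelian A] [HasDerivedCategory.{w} A]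
  [IsGrothendieckAbelian.{v} A]

/-- Products (of the size of the morphisms) exist in the derived category of a Grothendieck
abelian category. -/
theorem hasProduct_derived {ι : Type v} (X : ι → DerivedCategory A) : HasProduct X := by
  have hm : ∀ i, ∃ M : CochainComplex A ℤ, M.IsKInjective ∧ Nonempty (Q.obj M ≅ X i) := by
    intro i
    obtain ⟨Z, hZ, ⟨e⟩⟩ := Groth.Agent.H5.KInjDer.exists_KI_iso (X i)
    obtain ⟨Z₀, rfl⟩ := HomotopyCategory.quotient_obj_surjective Z
    exact ⟨Z₀, (CochainComplex.isKInjective_iff_rightOrthogonal Z₀).2 hZ,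
      ⟨((quotientCompQhIso A).app Z₀).symm ≪≫ e.symm⟩⟩
  choose M hM e using hm
  haveI : HasProduct M := inferInstance
  haveI := Groth.Agent.H5.KInj.hasProduct_Q_obj M hM
  exact hasLimit_of_iso (Discrete.natIso (fun ⟨n⟩ => (e n).some) :
    Discrete.functor (fun n => Q.obj (M n)) ≅ Discrete.functor X)

/-- Countable products exist in the derived category of a Grothendieck abelian category. -/
theorem hasProduct_derived_nat (X : ℕ → DerivedCategory A) : HasProduct X := by
  haveI : HasLimitsOfShape (Discrete (ULift.{v} ℕ)) (DerivedCategory A) := ⟨fun G => by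
    have := hasProduct_derived (fun i => G.obj ⟨i⟩)
    exact hasLimit_of_iso (Discrete.natIso (fun ⟨i⟩ => Iso.refl _) :
      Discrete.functor (fun i => G.obj ⟨i⟩) ≅ G)⟩
  haveI : HasLimitsOfShape (Discrete ℕ) (DerivedCategory A) :=
    hasLimitsOfShape_of_equivalence
      (Discrete.equivalence Equiv.ulift : Discrete (ULift.{v} ℕ) ≌ Discrete ℕ)
  infer_instance

end Products

end Groth.Agent.H5.SiteEq
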