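import Groth.Agent.H33.TriFF
import Groth.Agent.H45.EquivPlus

/-!
# Bounded dévissage: an exact functor which is an equivalence on weak Serre subcategories and
fully faithful on their `Ext` groups induces an equivalence `D^b_{P'}(A') ≃ D^b_P(A)` (helper5)
-/

set_option autoImplicit false
universe w w' v v' u u'

namespace Groth.Agent.H5.SiteEq

open CategoryTheory Limits Pretriangulated DerivedCategory DerivedCategory.TStructure
open Groth.Agent.H33.TriFF

section General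

variable {C : Type u} [Category.{v} C] [Preadditive C] [HasZeroObject C] [HasShift C ℤ]
  [∀ n : ℤ, (shiftFunctor C n).Additive] [Pretriangulated C]
variable {D : Type u'} [Category.{v'} D] [Preadditive D] [HasZeroObject D] [HasShift D ℤ]
  [∀ n : ℤ, (shiftFunctor D n).Additive] [Pretriangulated D]
variable (H : C ⥤ D)

theorem ff_of_bijective [H.PreservesZeroMorphisms] {K L : C}
    (h : Function.Bijective (fun φ : K ⟶ L => H.map φ)) : FF H K L :=
  ⟨fun f hf => h.1 (by dsimp; rw [hf, H.map_zero]), fun g => h.2 g⟩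

theorem bijective_of_ff [H.Additive] {K L : C} (h : FF H K L) :
    Function.Bijective (fun φ : K ⟶ L => H.map φ) := by
  refine ⟨fun f g hfg => ?_, fun g => h.2 g⟩
  have : f - g = 0 := h.1 _ (by dsimp at hfg; rw [H.map_sub, hfg, sub_self])
  exact sub_eq_zero.1 this

variable [H.CommShift ℤ] [H.IsTriangulated]

theorem p₂_of_p₁ {K L : C} (h : P₁ H L K) : P₂ H K L := fun j =>
  ((h (-j)).shift j).of_iso ((shiftFunctorCompIsoId C (-j) j (by omega)).app K) (Iso.refl _)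

theorem p₁_of_p₂ {K L : C} (h : P₂ H K L) : P₁ H L K := fun i =>
  ((h (-i)).shift i).of_iso (Iso.refl _) ((shiftFunctorCompIsoId C (-i) i (by omega)).app L)

theorem p₁_shift {K L : C} (h : P₁ H L K) (k : ℤ) : P₁ H L (K⟦k⟧) := fun i =>
  (h (k + i)).of_iso ((shiftFunctorAdd' C k i (k + i) rfl).app K) (Iso.refl _)

theorem p₂_shift {K L : C} (h : P₂ H K L) (k : ℤ) : P₂ H K (L⟦k⟧) := fun i =>
  (h (k + i)).of_iso (Iso.refl _) ((shiftFunctorAdd' C k i (k + i) rfl).app L)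

theorem p₁_of_iso {K K' L : C} (e : K ≅ K') (h : P₁ H L K) : P₁ H L K' := fun i =>
  (h i).of_iso ((shiftFunctor C i).mapIso e) (Iso.refl _)

theorem p₂_of_iso {K L L' : C} (e : L ≅ L') (h : P₂ H K L) : P₂ H K L' := fun i =>
  (h i).of_iso (Iso.refl _) ((shiftFunctor C i).mapIso e)

end General

section Derived

variable {A' : Type u'} [Category.{v'} A'] [Abelian A'] [HasDerivedCategory.{w'} A']
  {A : Type u} [Category.{v} A] [Abelian A] [HasDerivedCategory.{w} A]
  (F : A' ⥤ A) [F.Additive] [PreservesFiniteLimits F] [PreservesFiniteColimits F]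
  (P' : ObjectProperty A') [WSerre.IsWeakSerre P'] (P : ObjectProperty A) [WSerre.IsWeakSerre P]

/-- The single functor in degree `j` is the shift by `-j` of the single functor in degree `0`. -/
noncomputable def singleShiftIso (M : A') (j : ℤ) :
    ((singleFunctor A' 0).obj M)⟦-j⟧ ≅ (singleFunctor A' j).obj M :=
  ((singleFunctors A').shiftIso (-j) j 0 (by omega)).app M

/-- `cohInBdd` is stable under shifts. -/
theorem cohInBdd_shift (K : DerivedCategory A') (hK : WSerre.cohInBdd P' K) (k : ℤ) :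
    WSerre.cohInBdd P' (K⟦k⟧) := by
  obtain ⟨hc, ⟨a, ha⟩, ⟨b, hb⟩⟩ := hK
  refine ⟨fun i => ?_, ⟨a - k, ?_⟩, ⟨b - k, ?_⟩⟩
  · exact P'.prop_of_iso
      (((homologyFunctor A' 0).shiftIso k i (k + i) rfl).app K).symm (hc (k + i))
  · haveI := ha
    exact t.isGE_shift K a k (a - k) (by omega)
  · haveI := hb
    exact t.isLE_shift K b k (b - k) (by omega)

variable (h2 : ∀ M' N' : A', P' M' → P' N' → ∀ n : ℤ, Function.Bijective
      (fun φ : ((singleFunctor A' 0).obj M' ⟶ ((singleFunctor A' 0).obj N')⟦n⟧) =>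
        F.mapDerivedCategory.map φ))

include h2 in
/-- Full faithfulness on bounded objects with cohomology in `P'`, for all shifts. -/
theorem p₂_bounded (K M : DerivedCategory A') (hK : WSerre.cohInBdd P' K)
    (hM : WSerre.cohInBdd P' M) : P₂ F.mapDerivedCategory K M := by
  let L := F.mapDerivedCategory
  -- Step A
  have hA : ∀ (N' : A'), P' N' → ∀ K : DerivedCategory A', WSerre.cohInBdd P' K →
      P₁ L ((singleFunctor A' 0).obj N') K := by
    intro N' hN' K hK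
    obtain ⟨hc, ⟨a, ha⟩, ⟨b, hb⟩⟩ := hK
    let QA : ObjectProperty (DerivedCategory A') := fun K => P₁ L ((singleFunctor A' 0).obj N') K
    haveI : QA.IsClosedUnderIsomorphisms := ⟨fun e h => p₁_of_iso L e h⟩
    refine Groth.Agent.H45.devissage_bounded' P' QA ?_ ?_ K a b ha hb hc
    · intro M' j hM'
      have hb : P₂ L ((singleFunctor A' 0).obj M') ((singleFunctor A' 0).obj N') :=
        fun n => ff_of_bijective L (h2 M' N' hM' hN' n)
      exact p₁_of_iso L (singleShiftIso M' j) (p₁_shift L (p₁_of_p₂ L hb) (-j))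
    · intro T hT h₁ h₃
      exact P₁.obj₂ L _ T hT h₁ h₃
  -- Step B
  obtain ⟨hc, ⟨a, ha⟩, ⟨b, hb⟩⟩ := hM
  let QB : ObjectProperty (DerivedCategory A') := fun M => P₂ L K M
  haveI : QB.IsClosedUnderIsomorphisms := ⟨fun e h => p₂_of_iso L e h⟩
  refine Groth.Agent.H45.devissage_bounded' P' QB ?_ ?_ M a b ha hb hc
  · intro N' j hN'
    exact p₂_of_iso L (singleShiftIso N' j) (p₂_shift L (p₂_of_p₁ L (hA N' hN' K hK)) (-j))
  · intro T hT h₁ h₃
    exact P₂.obj₂ L _ T hT h₁ h₃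

/-- `cohInBdd` is preserved by the functor induced by an exact functor mapping `P'` into `P`. -/
theorem cohInBdd_map (h1 : ∀ M' : A', P' M' → P (F.obj M')) (K : DerivedCategory A')
    (hK : WSerre.cohInBdd P' K) : WSerre.cohInBdd P (F.mapDerivedCategory.obj K) := by
  obtain ⟨hc, ⟨a, ha⟩, ⟨b, hb⟩⟩ := hK
  refine ⟨fun i => ?_, ⟨a, ?_⟩, ⟨b, ?_⟩⟩
  · obtain ⟨e⟩ := Groth.Agent.H45.nonempty_homology_mapDerivedCategory_iso F K i
    exact P.prop_of_iso e.symm (h1 _ (hc i))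
  · exact Groth.Agent.H45.isGE_mapDerivedCategory F K a ha
  · exact Groth.Agent.H45.isLE_mapDerivedCategory F K b hb

include h2 in
theorem bounded_equivalence (h1 : ∀ M' : A', P' M' → P (F.obj M'))
    (hess : ∀ M : A, P M → ∃ M' : A', P' M' ∧ Nonempty (F.obj M' ≅ M)) :
    (∀ K : DerivedCategory A', WSerre.cohInBdd P' K →
      WSerre.cohInBdd P (F.mapDerivedCategory.obj K)) ∧
    (∀ K M : DerivedCategory A', WSerre.cohInBdd P' K → WSerre.cohInBdd P' M →
      Function.Bijective (fun φ : K ⟶ M => F.mapDerivedCategory.map φ)) ∧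
    (∀ M : DerivedCategory A, WSerre.cohInBdd P M →
      ∃ K : DerivedCategory A', WSerre.cohInBdd P' K ∧
        Nonempty (F.mapDerivedCategory.obj K ≅ M)) := by
  let L := F.mapDerivedCategory
  refine ⟨cohInBdd_map F P' P h1, fun K M hK hM => ?_, fun M hM => ?_⟩
  · have h0 := p₂_bounded F P' h2 K M hK hM 0
    exact bijective_of_ff L (h0.of_iso (Iso.refl _) ((shiftFunctorZero _ ℤ).app M))
  · obtain ⟨hc, ⟨a, ha⟩, ⟨b, hb⟩⟩ := hM
    let Q : ObjectProperty (DerivedCategory A) := fun M =>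
      ∃ K : DerivedCategory A', WSerre.cohInBdd P' K ∧ Nonempty (L.obj K ≅ M)
    haveI : Q.IsClosedUnderIsomorphisms :=
      ⟨fun e h => by
        obtain ⟨K, hK, ⟨i⟩⟩ := h
        exact ⟨K, hK, ⟨i ≪≫ e⟩⟩⟩
    refine Groth.Agent.H45.devissage_bounded' P Q ?_ ?_ M a b ha hb hc
    · intro M₀ j hM₀
      obtain ⟨M', hM', ⟨e⟩⟩ := hess M₀ hM₀
      refine ⟨(singleFunctor A' j).obj M', ⟨Groth.Agent.H45.cohIn_single P' M' hM' j,
        ⟨j, inferInstanceAs (((singleFunctor A' j).obj M').IsGE j)⟩,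
        ⟨j, inferInstanceAs (((singleFunctor A' j).obj M').IsLE j)⟩⟩, ⟨?_⟩⟩
      exact (F.mapDerivedCategorySingleFunctor j).app M' ≪≫ (singleFunctor A j).mapIso e
    · intro T hT h₁ h₃
      obtain ⟨K₁, hK₁, ⟨e₁⟩⟩ := h₁
      obtain ⟨K₃, hK₃, ⟨e₃⟩⟩ := h₃
      -- lift the third map
      obtain ⟨δ, hδ⟩ := (p₂_bounded F P' h2 K₃ K₁ hK₃ hK₁ 1).2
        (e₃.hom ≫ T.mor₃ ≫ e₁.inv⟦(1 : ℤ)⟧' ≫ (L.commShiftIso (1 : ℤ)).inv.app K₁)
      obtain ⟨K₂, f, g, hTδ⟩ := distinguished_cocone_triangle₂ δ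
      have hLT := L.map_distinguished _ hTδ
      -- compare the twice rotated triangles
      have hr₁ := rot_of_distTriang _ (rot_of_distTriang _ hLT)
      have hr₂ := rot_of_distTriang _ (rot_of_distTriang _ hT)
      obtain ⟨e', -, -⟩ := exists_iso_of_arrow_iso _ _ hr₁ hr₂
        (Arrow.isoMk e₃ ((shiftFunctor _ (1 : ℤ)).mapIso e₁) (by
          change e₃.hom ≫ T.mor₃ = (L.map δ ≫ (L.commShiftIso (1 : ℤ)).hom.app K₁) ≫ e₁.hom⟦(1 : ℤ)⟧'
          rw [hδ]
          simp only [Category.assoc, Iso.inv_hom_id_app_assoc, ← Functor.map_comp, Iso.inv_hom_id]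
          rw [CategoryTheory.Functor.map_id, Category.comp_id]))
      let e₂ : L.obj K₂ ≅ T.obj₂ :=
        (shiftFunctor (DerivedCategory A) (1 : ℤ)).preimageIso (Triangle.π₃.mapIso e')
      refine ⟨K₂, ⟨?_, ?_, ?_⟩, ⟨e₂⟩⟩
      · exact Groth.Agent.H45.cohIn_obj₂_of_distTriang P' _ hTδ hK₁.1 hK₃.1
      · obtain ⟨a₁, ha₁⟩ := hK₁.2.1
        obtain ⟨a₃, ha₃⟩ := hK₃.2.1
        refine ⟨min a₁ a₃, t.isGE₂ _ hTδ _ ?_ ?_⟩
        · exact t.isGE_of_ge K₁ (min a₁ a₃) a₁ (min_le_left _ _)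
        · exact t.isGE_of_ge K₃ (min a₁ a₃) a₃ (min_le_right _ _)
      · obtain ⟨b₁, hb₁⟩ := hK₁.2.2
        obtain ⟨b₃, hb₃⟩ := hK₃.2.2
        refine ⟨max b₁ b₃, t.isLE₂ _ hTδ _ ?_ ?_⟩
        · exact t.isLE_of_le K₁ b₁ (max b₁ b₃) (le_max_left _ _)
        · exact t.isLE_of_le K₃ b₃ (max b₁ b₃) (le_max_right _ _)

end Derived

end Groth.Agent.H5.SiteEq
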