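import Groth.Prelude.Def_SiteCmp

/-!
# The direct image along the comparison morphism of two topologies is fully faithful (helper5)
-/

set_option autoImplicit false
universe u
open CategoryTheory CategoryTheory.Limits Opposite

namespace Groth.Agent.H5.SiteEq

variable {C : Type u} [SmallCategory C] {J J' : GrothendieckTopology C} (h : J' ≤ J)
  (O : Sheaf J CommRingCat.{u})

theorem eps_sharpR_hom : (SiteCmp.eps h O).sharpR.hom = 𝟙 _ := by
  have : (SiteCmp.eps h O).sharpR = 𝟙 _ := by
    change (sheafCompose J' (forget₂ CommRingCat.{u} RingCat.{u})).map (𝟙 _) = 𝟙 _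
    exact CategoryTheory.Functor.map_id _ _
  rw [this]
  rfl

/-- The pushforward of presheaves of modules along a morphism equal to the identity. -/
noncomputable def pushforwardIsoOfEqId {R : Cᵒᵖ ⥤ RingCat.{u}} (φ : R ⟶ (𝟭 C).op ⋙ R)
    (e : φ = 𝟙 R) : PresheafOfModules.pushforward.{u} φ ≅ 𝟭 _ := eqToIso (by subst e; rfl)

/-- `ε_*` followed by the forgetful functor to presheaves of modules is the forgetful functor. -/
noncomputable def pushForgetIso :
    (SiteCmp.eps h O).push ⋙ SheafOfModules.forget _ ≅ SheafOfModules.forget (ModSite.ringSh O) :=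
  show SheafOfModules.forget (ModSite.ringSh O) ⋙
      PresheafOfModules.pushforward (SiteCmp.eps h O).sharpR.hom ≅ _ from
  Functor.isoWhiskerLeft (SheafOfModules.forget (ModSite.ringSh O))
    (pushforwardIsoOfEqId (R := (ModSite.ringSh O).obj) (SiteCmp.eps h O).sharpR.hom
      (eps_sharpR_hom h O)) ≪≫ Functor.rightUnitor _

/-- `ε_*` is fully faithful on sheaves of modules. -/
noncomputable def epsPushFullyFaithful : (SiteCmp.eps h O).push.FullyFaithful :=
  Functor.FullyFaithful.ofCompFaithful (G := SheafOfModules.forget _)
    (Functor.FullyFaithful.ofIso (SheafOfModules.fullyFaithfulForget _) (pushForgetIso h O).symm)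

instance isIso_counit_eps : IsIso (SiteCmp.eps h O).adj.counit := by
  haveI := (epsPushFullyFaithful h O).full
  haveI := (epsPushFullyFaithful h O).faithful
  infer_instance

end Groth.Agent.H5.SiteEq
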