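import Groth.Agent.H5.SiteEq.Basic
import Groth.Agent.H5.RlimMod.Const
import Groth.Agent.H5.RlimMod.Trunc

/-!
# Extending `D^+_{P'}(𝒜') ≃ D^+_P(𝒜)` to the unbounded derived categories (helper5)

`𝒜`, `𝒜'` Grothendieck abelian categories of sheaf type (`SecStr`) on sites `(C, J)`, `(D, K)`,
`F : 𝒜' ⥤ 𝒜` exact, `R` a right adjoint of `F.mapDerivedCategory`.  Under the hypotheses of
`H45.equivalence_plus` together with full faithfulness of `F` on `P'` and locally bounded
cohomological dimension of `P` and `P'` on covering classes of objects, `F.mapDerivedCategory` and `R`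
are inverse equivalences between `D_{P'}(𝒜')` and `D_P(𝒜)`.
-/

set_option autoImplicit false
universe w₁ w₂ w₃ w₄ u

namespace Groth.Agent.H5.SiteEq

open CategoryTheory Limits Opposite DerivedCategory Pretriangulated
open Groth.Agent.H5.RlimMod Groth.Agent.H33.RlimTrunc

variable {C : Type u} [SmallCategory C] {J : GrothendieckTopology C}
  {D : Type u} [SmallCategory D] {K : GrothendieckTopology D}
  {𝒜 : Type (u + 1)} [Category.{u} 𝒜] [Abelian 𝒜] [IsGrothendieckAbelian.{u} 𝒜]
  {𝒜' : Type (u + 1)} [Category.{u} 𝒜'] [Abelian 𝒜'] [IsGrothendieckAbelian.{u} 𝒜']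
  (S : SecStr J 𝒜) (S' : SecStr K 𝒜')
  [HasDerivedCategory.{w₁} 𝒜] [HasDerivedCategory.{w₂} 𝒜'] [HasExt.{w₃} 𝒜] [HasExt.{w₄} 𝒜']
  (F : 𝒜' ⥤ 𝒜) [F.Additive] [PreservesFiniteLimits F] [PreservesFiniteColimits F]

theorem equivalence_unbounded
    (R : DerivedCategory 𝒜 ⥤ DerivedCategory 𝒜') (adj : F.mapDerivedCategory ⊣ R)
    (P : ObjectProperty 𝒜) [WSerre.IsWeakSerre P] (P' : ObjectProperty 𝒜') [WSerre.IsWeakSerre P']
    (h2a : ∀ M' : 𝒜', P' M' → P (F.obj M'))
    (h2b : ∀ M' N' : 𝒜', P' M' → P' N' → Function.Bijective (fun φ : M' ⟶ N' => F.map φ))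
    (h2c : ∀ M : 𝒜, P M → ∃ M' : 𝒜', P' M' ∧ Nonempty (F.obj M' ≅ M))
    (h3 : ∀ M' : 𝒜', P' M' → IsIso (adj.unit.app ((singleFunctor 𝒜' 0).obj M')))
    (B : Set C) (B' : Set D)
    (hB : ∀ U : C, ∃ (ι : Type u) (Y : ι → C) (g : ∀ i, Y i ⟶ U),
      Sieve.ofArrows Y g ∈ J U ∧ ∀ i, Y i ∈ B)
    (hA : ∀ V ∈ B, ∃ d : ℕ, ∀ T ∈ J V, ∃ (ι : Type u) (Y : ι → C) (g : ∀ i, Y i ⟶ V),
      (∀ i, T.arrows (g i)) ∧ Sieve.ofArrows Y g ∈ J V ∧
      ∀ (i : ι) (M : 𝒜), P M → ∀ k : ℕ, d < k →
        Subsingleton (Abelian.Ext.{w₃} (S.P (Y i)) M k))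
    (hB' : ∀ U : D, ∃ (ι : Type u) (Y : ι → D) (g : ∀ i, Y i ⟶ U),
      Sieve.ofArrows Y g ∈ K U ∧ ∀ i, Y i ∈ B')
    (hA' : ∀ V ∈ B', ∃ d : ℕ, ∀ T ∈ K V, ∃ (ι : Type u) (Y : ι → D) (g : ∀ i, Y i ⟶ V),
      (∀ i, T.arrows (g i)) ∧ Sieve.ofArrows Y g ∈ K V ∧
      ∀ (i : ι) (M' : 𝒜'), P' M' → ∀ k : ℕ, d < k →
        Subsingleton (Abelian.Ext.{w₄} (S'.P (Y i)) M' k)) :
    (∀ Y : DerivedCategory 𝒜', WSerre.cohIn P' Y →
      WSerre.cohIn P (F.mapDerivedCategory.obj Y) ∧ IsIso (adj.unit.app Y)) ∧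
    (∀ X : DerivedCategory 𝒜, WSerre.cohIn P X →
      WSerre.cohIn P' (R.obj X) ∧ IsIso (adj.counit.app X)) := by
  obtain ⟨hplusU, hplusC⟩ := H45.equivalence_plus F R adj P P' h2a h2c h3
  letI : R.CommShift ℤ := adj.rightAdjointCommShift ℤ
  haveI : adj.CommShift ℤ := adj.commShift_of_leftAdjoint ℤ
  haveI : R.IsTriangulated := adj.isTriangulated_rightAdjoint
  haveI : PreservesLimitsOfSize.{0, 0} R := adj.rightAdjoint_preservesLimits
  have hzero : ∀ Z : 𝒜, IsZero Z → P Z := fun Z hZ => P.prop_of_isZero hZ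
  -- truncations are in `D^+_P`
  have htr : ∀ (X : DerivedCategory 𝒜), WSerre.cohIn P X → ∀ n : ℕ,
      WSerre.cohInPlus P (CohCx.truncTower X n) := by
    intro X hX n
    refine ⟨H45.prop_homology_truncGE P hzero X _ hX, ⟨-(n : ℤ), ?_⟩⟩
    exact inferInstanceAs (TStructure.t.IsGE ((TStructure.t.truncGE (-(n : ℤ))).obj X) (-(n : ℤ)))
  -- the key: `H^j(R X) ⟶ H^j(R τ_{≥ -n} X)` is an isomorphism for `n` large
  have key : ∀ (X : DerivedCategory 𝒜), WSerre.cohIn P X → ∀ j : ℤ, ∃ n₀ : ℕ, ∀ n, n₀ ≤ n →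
      IsIso ((homologyFunctor 𝒜' j).map (R.map (CohCx.toTruncTower X n))) := by
    intro X hX j
    haveI : HasProduct (CohCx.truncTower X) := hasProduct_derived_nat _
    haveI : HasProduct (fun n => R.obj (CohCx.truncTower X n)) := hasProduct_derived_nat _
    have hXlim : CohCx.IsRlimVia (CohCx.truncTower X) (CohCx.truncTowerMap X) X
        (CohCx.toTruncTower X) := by
      refine S.isRlimVia_truncTower X B hB ?_
      intro V hV
      obtain ⟨d, hd⟩ := hA V hV
      refine ⟨fun _ => (d : ℤ), fun T hT => ?_⟩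
      obtain ⟨ι, Y, g, hg, hcov, hY⟩ := hd T hT
      exact ⟨ι, Y, g, hg, hcov, fun i m k hk => hY i _ (hX _) k
        (by exact_mod_cast (show (d : ℤ) < k from hk))⟩
    have hRlim := isRlimVia_map R (CohCx.truncTower X) (CohCx.truncTowerMap X) X
      (CohCx.toTruncTower X) hXlim
    have hK : ∀ n, WSerre.cohInPlus P' (R.obj (CohCx.truncTower X n)) :=
      fun n => (hplusC _ (htr X hX n)).1
    refine S'.isIso_homology_of_eventually_constant P' B' hB' hA'
      (fun n => R.obj (CohCx.truncTower X n)) (fun n => R.map (CohCx.truncTowerMap X n)) hK ?_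
      (R.obj X) (fun n => R.map (CohCx.toTruncTower X n)) hRlim j
    intro q
    refine ⟨(-q).toNat, fun n hn => ?_⟩
    -- `H^q(t_n)` is an isomorphism
    have h1 : IsIso ((homologyFunctor 𝒜 q).map (CohCx.truncTowerMap X n)) := by
      have hc := SecStr.toTruncTower_comp X n
      have ha := isIso_homology_truncGEπ X (-((n + 1 : ℕ) : ℤ)) q (by push_cast; omega)
      have hb := isIso_homology_truncGEπ X (-(n : ℤ)) q (by omega)
      have hc' := congrArg (fun f => (homologyFunctor 𝒜 q).map f) hc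
      simp only [Functor.map_comp] at hc'
      haveI := ha
      haveI := hb
      have : (homologyFunctor 𝒜 q).map (CohCx.truncTowerMap X n) =
          inv ((homologyFunctor 𝒜 q).map (CohCx.toTruncTower X (n + 1))) ≫
            (homologyFunctor 𝒜 q).map (CohCx.toTruncTower X n) := by
        rw [IsIso.eq_inv_comp]; exact hc'
      rw [this]
      infer_instance
    -- transport through the counit
    haveI hc1 := (hplusC _ (htr X hX (n + 1))).2
    haveI hc0 := (hplusC _ (htr X hX n)).2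
    have hnat : F.mapDerivedCategory.map (R.map (CohCx.truncTowerMap X n)) ≫
        adj.counit.app (CohCx.truncTower X n) =
          adj.counit.app (CohCx.truncTower X (n + 1)) ≫ CohCx.truncTowerMap X n :=
      adj.counit.naturality (CohCx.truncTowerMap X n)
    have h2 : IsIso ((homologyFunctor 𝒜 q).map
        (F.mapDerivedCategory.map (R.map (CohCx.truncTowerMap X n)))) := by
      have : F.mapDerivedCategory.map (R.map (CohCx.truncTowerMap X n)) =
          adj.counit.app (CohCx.truncTower X (n + 1)) ≫ CohCx.truncTowerMap X n ≫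
            inv (adj.counit.app (CohCx.truncTower X n)) := by
        rw [← reassoc_of% hnat, IsIso.hom_inv_id, Category.comp_id]
      rw [this, Functor.map_comp, Functor.map_comp]
      infer_instance
    haveI := (isIso_homology_map_iff F _ q).1 h2
    exact isIso_of_map_bijective F P' h2b ((hK (n + 1)).1 q) ((hK n).1 q) _
  -- the counit statement
  have hC : ∀ X : DerivedCategory 𝒜, WSerre.cohIn P X →
      WSerre.cohIn P' (R.obj X) ∧ IsIso (adj.counit.app X) := by
    intro X hX
    refine ⟨fun j => ?_, ?_⟩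
    · obtain ⟨n₀, hn₀⟩ := key X hX j
      haveI := hn₀ n₀ le_rfl
      exact P'.prop_of_iso
        (asIso ((homologyFunctor 𝒜' j).map (R.map (CohCx.toTruncTower X n₀)))).symm
        ((hplusC _ (htr X hX n₀)).1.1 j)
    · rw [DerivedCategory.isIso_iff]
      intro j
      obtain ⟨n₀, hn₀⟩ := key X hX j
      let n := max n₀ (-j).toNat
      haveI h1 := hn₀ n (le_max_left _ _)
      haveI h2 : IsIso ((homologyFunctor 𝒜 j).map (CohCx.toTruncTower X n)) :=
        isIso_homology_truncGEπ X (-(n : ℤ)) j (by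
          have : (-j).toNat ≤ n := le_max_right _ _
          omega)
      haveI h3' := (hplusC _ (htr X hX n)).2
      haveI h4 : IsIso ((homologyFunctor 𝒜 j).map
          (F.mapDerivedCategory.map (R.map (CohCx.toTruncTower X n)))) := by
        rw [isIso_homology_map_iff]
        infer_instance
      have hnat : F.mapDerivedCategory.map (R.map (CohCx.toTruncTower X n)) ≫
          adj.counit.app (CohCx.truncTower X n) = adj.counit.app X ≫ CohCx.toTruncTower X n :=
        adj.counit.naturality (CohCx.toTruncTower X n)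
      have hnat' := congrArg (fun f => (homologyFunctor 𝒜 j).map f) hnat
      simp only [Functor.map_comp] at hnat'
      have : (homologyFunctor 𝒜 j).map (adj.counit.app X) =
          ((homologyFunctor 𝒜 j).map
            (F.mapDerivedCategory.map (R.map (CohCx.toTruncTower X n))) ≫
            (homologyFunctor 𝒜 j).map (adj.counit.app (CohCx.truncTower X n))) ≫
            inv ((homologyFunctor 𝒜 j).map (CohCx.toTruncTower X n)) := by
        rw [IsIso.eq_comp_inv]; exact hnat'.symm
      rw [this]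
      infer_instance
  refine ⟨fun Y hY => ?_, hC⟩
  have hLY : WSerre.cohIn P (F.mapDerivedCategory.obj Y) := by
    intro i
    obtain ⟨e⟩ := H45.nonempty_homology_mapDerivedCategory_iso F Y i
    exact P.prop_of_iso e.symm (h2a _ (hY i))
  refine ⟨hLY, ?_⟩
  obtain ⟨hRLY, hcounit⟩ := hC _ hLY
  haveI := hcounit
  have htri := adj.left_triangle_components Y
  haveI hLu : IsIso (F.mapDerivedCategory.map (adj.unit.app Y)) := by
    have : F.mapDerivedCategory.map (adj.unit.app Y) =
        inv (adj.counit.app (F.mapDerivedCategory.obj Y)) := by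
      exact IsIso.eq_inv_of_inv_hom_id htri
    rw [this]
    infer_instance
  rw [DerivedCategory.isIso_iff]
  intro j
  haveI : IsIso (F.map ((homologyFunctor 𝒜' j).map (adj.unit.app Y))) := by
    rw [← isIso_homology_map_iff]
    infer_instance
  exact isIso_of_map_bijective F P' h2b (hY j) (hRLY j) _

end Groth.Agent.H5.SiteEq
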