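import Groth.Prelude.Def_WeakSerre
import Mathlib.Algebra.Homology.ShortComplex.ExactFunctor
import Mathlib.CategoryTheory.Adjunction.FullyFaithful
import Mathlib.CategoryTheory.Adjunction.Additive
import Mathlib.CategoryTheory.Abelian.Basic

/-!
# The image of a weak Serre subcategory under a fully faithful right adjoint (helper5)

`F : 𝒜' ⥤ 𝒜` exact with a fully faithful right adjoint `G`; `A ⊂ 𝒜` weak Serre such that `G` preserves
epimorphisms whose kernel is in `A`.  Then `A.map G` is a weak Serre subcategory of `𝒜'`; it consists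
of the objects `N` with `F N ∈ A` whose unit `N ⟶ G F N` is an isomorphism.
-/

set_option autoImplicit false
universe v v' u u'

namespace Groth.Agent.H5.SiteEq

open CategoryTheory Limits ZeroObject

variable {𝒜 : Type u} [Category.{v} 𝒜] [Abelian 𝒜] {𝒜' : Type u'} [Category.{v'} 𝒜'] [Abelian 𝒜']
  {F : 𝒜' ⥤ 𝒜} {G : 𝒜 ⥤ 𝒜'} (adj : F ⊣ G)

/-- The objects `N` with `F N ∈ A` whose unit is an isomorphism. -/
def unitProp (A : ObjectProperty 𝒜) : ObjectProperty 𝒜' :=
  fun N => A (F.obj N) ∧ IsIso (adj.unit.app N)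

section

variable [G.Full] [G.Faithful] (A : ObjectProperty 𝒜) [A.IsClosedUnderIsomorphisms]

theorem map_eq_unitProp : A.map G = unitProp adj A := by
  ext N
  rw [ObjectProperty.prop_map_iff]
  constructor
  · rintro ⟨M, hM, ⟨e⟩⟩
    refine ⟨?_, adj.isIso_unit_app_of_iso e.symm⟩
    exact A.prop_of_iso (F.mapIso e.symm ≪≫ asIso (adj.counit.app M)).symm hM
  · rintro ⟨hA, hiso⟩
    exact ⟨F.obj N, hA, ⟨(asIso (adj.unit.app N)).symm⟩⟩

end

section Bij

omit [Abelian 𝒜] [Abelian 𝒜'] in
/-- The left adjoint is bijective on morphisms into an object whose unit is an isomorphism. -/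
theorem bijective_map_of_isIso_unit (M' N' : 𝒜') [IsIso (adj.unit.app N')] :
    Function.Bijective (fun φ : M' ⟶ N' => F.map φ) := by
  have h1 : Function.Bijective (fun x : M' ⟶ N' => x ≫ adj.unit.app N') :=
    ⟨fun x y hxy => (cancel_mono _).1 hxy,
      fun z => ⟨z ≫ inv (adj.unit.app N'), by simp⟩⟩
  have h2 : (fun φ : M' ⟶ N' => F.map φ) =
      (adj.homEquiv M' (F.obj N')).symm ∘ (fun x : M' ⟶ N' => x ≫ adj.unit.app N') := by
    funext x
    apply (adj.homEquiv _ _).injective
    simp only [Function.comp_apply, Equiv.apply_symm_apply]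
    rw [Adjunction.homEquiv_unit]
    exact (adj.unit.naturality x).symm
  rw [h2]
  exact (Equiv.bijective _).comp h1

end Bij

section TwoOfThree

variable {ℬ : Type u} [Category.{v} ℬ] [Abelian ℬ]

/-- In a morphism of short exact sequences, if the first two components are isomorphisms, so is the
third. -/
theorem isIso_τ₃_of_shortExact {S₁ S₂ : ShortComplex ℬ} (φ : S₁ ⟶ S₂) (h₁ : S₁.ShortExact)
    (h₂ : S₂.ShortExact) [IsIso φ.τ₁] [IsIso φ.τ₂] : IsIso φ.τ₃ := by
  haveI := h₁.epi_g
  haveI := h₂.epi_g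
  have h12 : S₂.f ≫ inv φ.τ₂ = inv φ.τ₁ ≫ S₁.f := by
    rw [IsIso.eq_inv_comp, ← Category.assoc, φ.comm₁₂, Category.assoc, IsIso.hom_inv_id,
      Category.comp_id]
  have hz : S₂.f ≫ inv φ.τ₂ ≫ S₁.g = 0 := by
    rw [← Category.assoc, h12, Category.assoc, S₁.zero, comp_zero]
  let ψ : S₂.X₃ ⟶ S₁.X₃ := h₂.gIsCokernel.desc (CokernelCofork.ofπ (inv φ.τ₂ ≫ S₁.g) hz)
  have hψ : S₂.g ≫ ψ = inv φ.τ₂ ≫ S₁.g :=
    Cofork.IsColimit.π_desc' h₂.gIsCokernel _ _
  refine ⟨ψ, ?_, ?_⟩
  · rw [← cancel_epi S₁.g, ← Category.assoc, ← φ.comm₂₃, Category.assoc, hψ,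
      IsIso.hom_inv_id_assoc, Category.comp_id]
  · rw [← cancel_epi S₂.g, ← Category.assoc, hψ, Category.assoc, ← φ.comm₂₃,
      IsIso.inv_hom_id_assoc, Category.comp_id]

end TwoOfThree

section WS

variable [F.Additive] [PreservesFiniteLimits F] [PreservesFiniteColimits F] [G.Full] [G.Faithful]
  (A : ObjectProperty 𝒜) [WSerre.IsWeakSerre A]
  (hKL : ∀ S : ShortComplex 𝒜, S.ShortExact → A S.X₁ → Epi (G.map S.g))

include adj in
theorem preservesFiniteLimits_right : PreservesFiniteLimits G := by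
  haveI : PreservesLimitsOfSize.{0, 0} G := adj.rightAdjoint_preservesLimits
  infer_instance

include adj hKL in
theorem shortExact_map_map (S' : ShortComplex 𝒜') (hS' : S'.ShortExact) (h1 : A (F.obj S'.X₁)) :
    ((S'.map F).map G).ShortExact := by
  haveI : G.Additive := adj.right_adjoint_additive
  haveI : PreservesFiniteLimits G := preservesFiniteLimits_right adj
  have hF : (S'.map F).ShortExact := hS'.map_of_exact F
  obtain ⟨hex, hmono⟩ :=
    (Functor.preservesFiniteLimits_iff_forall_exact_map_and_mono G).1 inferInstance _ hF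
  exact ShortComplex.ShortExact.mk' hex hmono (hKL _ hF h1)

/-- The unit as a morphism of short complexes. -/
def unitShortComplex (S' : ShortComplex 𝒜') : S' ⟶ (S'.map F).map G where
  τ₁ := adj.unit.app S'.X₁
  τ₂ := adj.unit.app S'.X₂
  τ₃ := adj.unit.app S'.X₃
  comm₁₂ := (adj.unit.naturality S'.f).symm
  comm₂₃ := (adj.unit.naturality S'.g).symm

include hKL in
theorem unitProp_X₂ (S' : ShortComplex 𝒜') (hS' : S'.ShortExact)
    (h1 : unitProp adj A S'.X₁) (h3 : unitProp adj A S'.X₃) : unitProp adj A S'.X₂ := by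
  refine ⟨A.prop_X₂_of_shortExact (hS'.map_of_exact F) h1.1 h3.1, ?_⟩
  haveI : IsIso (unitShortComplex adj S').τ₁ := h1.2
  haveI : IsIso (unitShortComplex adj S').τ₃ := h3.2
  exact ShortComplex.isIso₂_of_shortExact_of_isIso₁₃ (unitShortComplex adj S') hS'
    (shortExact_map_map adj A hKL S' hS' h1.1)

include hKL in
theorem unitProp_X₃ (S' : ShortComplex 𝒜') (hS' : S'.ShortExact)
    (h1 : unitProp adj A S'.X₁) (h2 : unitProp adj A S'.X₂) : unitProp adj A S'.X₃ := by
  constructor
  · exact A.prop_of_isColimit_cokernelCofork (hS'.map_of_exact F).gIsCokernel h1.1 h2.1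
  · haveI : IsIso (unitShortComplex adj S').τ₁ := h1.2
    haveI : IsIso (unitShortComplex adj S').τ₂ := h2.2
    exact isIso_τ₃_of_shortExact (unitShortComplex adj S') hS'
      (shortExact_map_map adj A hKL S' hS' h1.1)

theorem unitProp_kernel {N₁ N₂ : 𝒜'} (f : N₁ ⟶ N₂) (k : KernelFork f) (hk : IsLimit k)
    (h1 : unitProp adj A N₁) (h2 : unitProp adj A N₂) : unitProp adj A k.pt := by
  constructor
  · exact A.prop_of_isLimit_kernelFork (KernelFork.mapIsLimit k hk F) h1.1 h2.1
  · haveI : PreservesFiniteLimits G := preservesFiniteLimits_right adj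
    haveI : PreservesFiniteLimits (F ⋙ G) := comp_preservesFiniteLimits F G
    haveI : G.Additive := adj.right_adjoint_additive
    have hk' : IsLimit (k.map (F ⋙ G)) := KernelFork.mapIsLimit k hk (F ⋙ G)
    haveI := h1.2
    haveI := h2.2
    have hn : ∀ {X Y : 𝒜'} (g : X ⟶ Y),
        g ≫ adj.unit.app Y = adj.unit.app X ≫ G.map (F.map g) := fun g => adj.unit.naturality g
    have hnat : inv (adj.unit.app N₁) ≫ f = G.map (F.map f) ≫ inv (adj.unit.app N₂) := by
      rw [IsIso.inv_comp_eq, ← Category.assoc, IsIso.eq_comp_inv]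
      exact hn f
    have hz : (G.map (F.map k.ι) ≫ inv (adj.unit.app N₁)) ≫ f = 0 := by
      rw [Category.assoc, hnat, ← Category.assoc, ← G.map_comp, ← F.map_comp, k.condition,
        F.map_zero, G.map_zero, zero_comp]
    obtain ⟨ψ, hψ⟩ := KernelFork.IsLimit.lift' hk _ hz
    refine ⟨ψ, ?_, ?_⟩
    · apply Fork.IsLimit.hom_ext hk
      rw [Category.assoc, hψ, Category.id_comp, ← Category.assoc, ← hn k.ι, Category.assoc,
        IsIso.hom_inv_id, Category.comp_id]
    · apply Fork.IsLimit.hom_ext hk'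
      change (ψ ≫ adj.unit.app k.pt) ≫ G.map (F.map k.ι) =
        𝟙 (G.obj (F.obj k.pt)) ≫ G.map (F.map k.ι)
      rw [Category.assoc, Category.id_comp, ← hn k.ι, ← Category.assoc, hψ, Category.assoc,
        IsIso.inv_hom_id, Category.comp_id]

include hKL in
theorem isWeakSerre_unitProp : WSerre.IsWeakSerre (unitProp adj A) := by
  haveI : (unitProp adj A).IsClosedUnderIsomorphisms := by
    rw [← map_eq_unitProp adj A]
    infer_instance
  refine { exists_zero := ?_, kernels_le := ?_, cokernels_le := ?_, prop_X₂_of_shortExact := ?_ }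
  · haveI : G.Additive := adj.right_adjoint_additive
    refine ⟨0, isZero_zero _, A.prop_of_isZero (F.map_isZero (isZero_zero _)), ?_⟩
    exact ⟨0, (isZero_zero _).eq_of_src _ _,
      (G.map_isZero (F.map_isZero (isZero_zero _))).eq_of_src _ _⟩
  · rintro N ⟨f, k, hk, ⟨h1, h2⟩⟩
    exact unitProp_kernel adj A f k hk h1 h2
  · rintro N ⟨f, c, hc, ⟨h1, h2⟩⟩
    have hK : unitProp adj A (kernel f) :=
      unitProp_kernel adj A f (KernelFork.ofι (kernel.ι f) (kernel.condition f))
        (kernelIsKernel f) h1 h2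
    let Sa : ShortComplex 𝒜' :=
      ShortComplex.mk (kernel.ι f) (cokernel.π (kernel.ι f)) (cokernel.condition _)
    have hSa : Sa.ShortExact :=
      { exact := ShortComplex.exact_cokernel (kernel.ι f)
        mono_f := inferInstanceAs (Mono (kernel.ι f))
        epi_g := inferInstanceAs (Epi (cokernel.π (kernel.ι f))) }
    have hcoim : unitProp adj A (Abelian.coimage f) := unitProp_X₃ adj A hKL Sa hSa hK h1
    have him : unitProp adj A (Abelian.image f) :=
      (unitProp adj A).prop_of_iso (Abelian.coimageIsoImage f) hcoim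
    let S0 : ShortComplex 𝒜' := ShortComplex.mk f c.π c.condition
    have hS0 : S0.Exact :=
      S0.exact_of_g_is_cokernel (IsColimit.ofIsoColimit hc (Cofork.ext (Iso.refl _) (by simp [S0])))
    have hSb : (ShortComplex.mk (Abelian.image.ι S0.f) S0.g
        (Abelian.image_ι_comp_eq_zero S0.zero)).ShortExact :=
      { exact := (S0.exact_iff_exact_image_ι).1 hS0
        mono_f := inferInstanceAs (Mono (Abelian.image.ι f))
        epi_g := Cofork.IsColimit.epi hc }
    exact unitProp_X₃ adj A hKL _ hSb him h2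
  · intro S' hS' h1 h3
    exact unitProp_X₂ adj A hKL S' hS' h1 h3

include adj hKL in
/-- The image of a weak Serre subcategory under a fully faithful right adjoint `G` of an exact
functor is weak Serre, if `G` preserves epimorphisms with kernel in `A`. -/
theorem isWeakSerre_map : WSerre.IsWeakSerre (A.map G) := by
  rw [map_eq_unitProp adj A]
  exact isWeakSerre_unitProp adj A hKL

end WS

end Groth.Agent.H5.SiteEq
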