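import Groth.Agent.H45.ExactFunctorD
import Mathlib.CategoryTheory.Adjunction.FullyFaithful
import Mathlib.Algebra.Homology.DerivedCategory.FullyFaithful

/-!
# The derived unit on the direct image of an acyclic object (helper5)

`F : 𝒜' ⥤ 𝒜` exact with right adjoint `G`; `R` a right adjoint of `F.mapDerivedCategory` whose counit
is an isomorphism.  If `M : 𝒜` satisfies `H^p(R(M[0])) = 0` for `p > 0`, then `R(M[0]) ≅ (G M)[0]`, and
the derived unit is an isomorphism at `(G M)[0]`.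
-/

set_option autoImplicit false
universe w₁ w₂ v v' u u'

namespace Groth.Agent.H5.SiteEq

open CategoryTheory Limits DerivedCategory

variable {𝒜 : Type u} [Category.{v} 𝒜] [Abelian 𝒜] {𝒜' : Type u'} [Category.{v'} 𝒜'] [Abelian 𝒜']
  [HasDerivedCategory.{w₁} 𝒜] [HasDerivedCategory.{w₂} 𝒜']
  (F : 𝒜' ⥤ 𝒜) [F.Additive] [PreservesFiniteLimits F] [PreservesFiniteColimits F]
  {G : 𝒜 ⥤ 𝒜'} (adj0 : F ⊣ G)
  {R : DerivedCategory 𝒜 ⥤ DerivedCategory 𝒜'} (adjD : F.mapDerivedCategory ⊣ R)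

include adjD in
/-- `Hom(X, (R Y)⟦p⟧)` vanishes if `Hom(L X, Y⟦p⟧)` does. -/
theorem subsingleton_hom_shift_right (X : DerivedCategory 𝒜') (Y : DerivedCategory 𝒜) (p : ℤ)
    (h : Subsingleton (F.mapDerivedCategory.obj X ⟶ Y⟦p⟧)) :
    Subsingleton (X ⟶ (R.obj Y)⟦p⟧) := by
  letI : R.CommShift ℤ := adjD.rightAdjointCommShift ℤ
  let i := (R.commShiftIso p).app Y
  refine ⟨fun x y => ?_⟩
  have h1 : (adjD.homEquiv _ _).symm (x ≫ i.inv) = (adjD.homEquiv _ _).symm (y ≫ i.inv) :=
    h.elim _ _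
  exact (cancel_mono i.inv).1 ((adjD.homEquiv _ _).symm.injective h1)

include adj0 in
theorem isIso_unit_single_of_vanishing [IsIso adjD.counit] (M : 𝒜)
    (hM : ∀ p : ℤ, 0 < p →
      IsZero ((homologyFunctor 𝒜' p).obj (R.obj ((singleFunctor 𝒜 0).obj M))))
    (N : 𝒜') (eN : G.obj M ≅ N) :
    IsIso (adjD.unit.app ((singleFunctor 𝒜' 0).obj N)) := by
  let L := F.mapDerivedCategory
  let K := R.obj ((singleFunctor 𝒜 0).obj M)
  haveI hGE : K.IsGE 0 :=
    Groth.Agent.H45.isGE_rightAdjoint adjD (Groth.Agent.H45.isLE_mapDerivedCategory F)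
      ((singleFunctor 𝒜 0).obj M) 0 inferInstance
  haveI hLE : K.IsLE 0 := (isLE_iff K 0).2 hM
  obtain ⟨G', ⟨e⟩⟩ := exists_iso_singleFunctor_obj_of_isGE_of_isLE K 0
  -- the derived unit is an isomorphism at `K`, hence at `G'[0]`
  haveI hRf : R.Full := adjD.fullyFaithfulROfIsIsoCounit.full
  haveI hRff : R.Faithful := adjD.fullyFaithfulROfIsIsoCounit.faithful
  have hu : IsIso (adjD.unit.app ((singleFunctor 𝒜' 0).obj G')) :=
    adjD.isIso_unit_app_of_iso e.symm
  -- `L` is bijective on morphisms into `G'[0]`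
  have hLbij : ∀ T : DerivedCategory 𝒜', Function.Bijective
      (fun x : T ⟶ (singleFunctor 𝒜' 0).obj G' => L.map x) := by
    intro T
    have h1 : Function.Bijective
        (fun x : T ⟶ (singleFunctor 𝒜' 0).obj G' =>
          x ≫ adjD.unit.app ((singleFunctor 𝒜' 0).obj G')) :=
      ⟨fun x y hxy => (cancel_mono _).1 hxy,
        fun z => ⟨z ≫ inv (adjD.unit.app ((singleFunctor 𝒜' 0).obj G')), by simp⟩⟩
    have h2 : (fun x : T ⟶ (singleFunctor 𝒜' 0).obj G' => L.map x) =
        (adjD.homEquiv T (L.obj ((singleFunctor 𝒜' 0).obj G'))).symm ∘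
          (fun x : T ⟶ (singleFunctor 𝒜' 0).obj G' =>
            x ≫ adjD.unit.app ((singleFunctor 𝒜' 0).obj G')) := by
      funext x
      apply (adjD.homEquiv _ _).injective
      simp only [Function.comp_apply, Equiv.apply_symm_apply]
      rw [Adjunction.homEquiv_unit]
      exact (adjD.unit.naturality x).symm
    rw [h2]
    exact (Equiv.bijective _).comp h1
  -- `F` is bijective on morphisms into `G'`
  let es := F.mapDerivedCategorySingleFunctor 0
  have hnat : ∀ {A B : 𝒜'} (φ : A ⟶ B), L.map ((singleFunctor 𝒜' 0).map φ) =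
      es.hom.app A ≫ (singleFunctor 𝒜 0).map (F.map φ) ≫ es.inv.app B := by
    intro A B φ
    have := es.hom.naturality φ
    dsimp at this
    rw [← reassoc_of% this, Iso.hom_inv_id_app]
    exact (Category.comp_id _).symm
  have hFbij : ∀ T' : 𝒜', Function.Bijective (fun φ : T' ⟶ G' => F.map φ) := by
    intro T'
    constructor
    · intro φ ψ hφψ
      dsimp at hφψ
      apply (singleFunctor 𝒜' 0).map_injective
      apply (hLbij _).1
      dsimp
      rw [hnat, hnat, hφψ]
    · intro y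
      obtain ⟨x, hx⟩ := (hLbij ((singleFunctor 𝒜' 0).obj T')).2
        (es.hom.app T' ≫ (singleFunctor 𝒜 0).map y ≫ es.inv.app G')
      obtain ⟨φ, rfl⟩ := (singleFunctor 𝒜' 0).map_surjective x
      refine ⟨φ, ?_⟩
      dsimp at hx ⊢
      rw [hnat, cancel_epi, cancel_mono] at hx
      exact (singleFunctor 𝒜 0).map_injective hx
  -- the unit of `F ⊣ G` is an isomorphism at `G'`
  have hu0 : IsIso (adj0.unit.app G') := by
    refine isIso_of_yoneda_map_bijective _ (fun T' => ?_)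
    have h2 : (fun x : T' ⟶ G' => x ≫ adj0.unit.app G') =
        (adj0.homEquiv T' (F.obj G')) ∘ (fun φ : T' ⟶ G' => F.map φ) := by
      funext x
      simp only [Function.comp_apply]
      rw [Adjunction.homEquiv_unit]
      exact adj0.unit.naturality x
    have h3 := (Equiv.bijective (adj0.homEquiv T' (F.obj G'))).comp (hFbij T')
    rw [← h2] at h3
    exact h3
  -- `F G' ≅ M`
  let i1 : (singleFunctor 𝒜 0).obj (F.obj G') ≅ (singleFunctor 𝒜 0).obj M :=
    (es.app G').symm ≪≫ L.mapIso e.symm ≪≫ asIso (adjD.counit.app ((singleFunctor 𝒜 0).obj M))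
  let i2 : F.obj G' ≅ M := (singleFunctor 𝒜 0).preimageIso i1
  -- conclusion
  let i3 : G' ≅ N := asIso (adj0.unit.app G') ≪≫ G.mapIso i2 ≪≫ eN
  exact (NatTrans.isIso_app_iff_of_iso adjD.unit ((singleFunctor 𝒜' 0).mapIso i3)).1 hu

end Groth.Agent.H5.SiteEq
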